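import Groth.Agent.SiteBase.DerivedKernel
import Groth.Agent.SiteBase.DerivedPrecompAcyclic
import Groth.Agent.QCoh.RpushGod
import Groth.Agent.QCoh.Tilde
import Groth.Agent.KFlatLib.Scheme.Grothendieck
import Groth.Prelude.Def_LocCohZ

/-!
# Local cohomology sheaves of quasi-coherent modules along a quasi-compact open immersion
-/

set_option autoImplicit false

universe w v u

open CategoryTheory CategoryTheory.Limits AlgebraicGeometry Opposite TopologicalSpace

namespace Groth.Agent.LocCohDepth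

section Abstract

variable {A : Type u} [Category.{v} A] [Abelian A] {Γ P : A ⥤ A} [Γ.Additive] [P.Additive]
  [PreservesFiniteLimits P] (ι : Γ ⟶ 𝟭 A) (η : 𝟭 A ⟶ P) (hw : ∀ X, ι.app X ≫ η.app X = 0)
  (hker : ∀ X, IsLimit (KernelFork.ofι (ι.app X) (hw X)))

include hker in
/-- The kernel of a transformation into a left exact functor is left exact. -/
theorem preservesFiniteLimits_kernel : PreservesFiniteLimits Γ := by
  let i : ∀ X, Γ.obj X ⟶ X := fun X => ι.app X
  let e : ∀ X, X ⟶ P.obj X := fun X => η.app X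
  have hi : ∀ {X Y : A} (f : X ⟶ Y), Γ.map f ≫ i Y = i X ≫ f := fun f => ι.naturality f
  have he : ∀ {X Y : A} (f : X ⟶ Y), f ≫ e Y = e X ≫ P.map f := fun f => η.naturality f
  have hie : ∀ X, i X ≫ e X = 0 := hw
  haveI : ∀ X, Mono (i X) := fun X => mono_of_isLimit_fork (hker X)
  refine (Functor.preservesFiniteLimits_iff_forall_exact_map_and_mono _).2 fun S hS => ?_
  haveI := hS.mono_f
  haveI hm : Mono (Γ.map S.f) := by
    refine ⟨fun a b hab => ?_⟩
    rw [← cancel_mono (i S.X₁), ← cancel_mono S.f, Category.assoc, Category.assoc, ← hi, ← Category.assoc, hab,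
      Category.assoc]
  haveI : Mono (S.map Γ).f := hm
  refine ⟨ShortComplex.exact_of_f_is_kernel _ (KernelFork.IsLimit.ofι' _ _ fun {T} k hk => Classical.choice ?_), hm⟩
  obtain ⟨k, rfl⟩ : ∃ k' : T ⟶ Γ.obj S.X₂, k' = k := ⟨k, rfl⟩
  have hk : k ≫ Γ.map S.g = 0 := hk
  have h1 : (k ≫ i S.X₂) ≫ S.g = 0 := by
    rw [Category.assoc, ← hi, ← Category.assoc, hk, zero_comp]
  let a : T ⟶ S.X₁ := hS.exact.lift _ h1
  have ha : a ≫ S.f = k ≫ i S.X₂ := hS.exact.lift_f _ h1
  haveI : Mono (P.map S.f) := P.map_mono S.f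
  have h2 : a ≫ e S.X₁ = 0 := by
    rw [← cancel_mono (P.map S.f), Category.assoc, ← he, ← Category.assoc, ha, Category.assoc, hie, comp_zero,
      zero_comp]
  obtain ⟨l, hl⟩ := KernelFork.IsLimit.lift' (hker S.X₁) a h2
  have hl' : l ≫ i S.X₁ = a := hl
  refine ⟨⟨l, ?_⟩⟩
  show l ≫ Γ.map S.f = k
  rw [← cancel_mono (i S.X₂), Category.assoc, hi, ← Category.assoc, hl', ha]

end Abstract

variable {U Y : Scheme.{u}} (j : U ⟶ Y) [IsOpenImmersion j]

/-- The unit `M ⟶ j_* (M|_U)`. -/
noncomputable abbrev unitJ : 𝟭 Y.Modules ⟶ Scheme.Modules.restrictFunctor j ⋙ Scheme.Modules.pushforward j :=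
  (Scheme.Modules.restrictAdjunction j).unit

/-- The inclusion of the sections with supports. -/
noncomputable def gammaι : DCoh.gammaZ j ⟶ 𝟭 Y.Modules where
  app _ := kernel.ι _
  naturality _ _ φ := kernel.lift_ι _ _ _

theorem epi_unitJ_of_flasque (I : Y.Modules) (hI : QCoh.IsFlasqueMod I) : Epi ((unitJ j).app I) := by
  refine ⟨fun {L} a b e => Scheme.Modules.hom_ext _ _ fun V => ?_⟩
  ext x
  have hle : j ''ᵁ (j ⁻¹ᵁ V) ≤ V := by
    rw [Scheme.Hom.image_preimage_eq_opensRange_inf]
    exact inf_le_right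
  obtain ⟨s, hs⟩ := (AddCommGrpCat.epi_iff_surjective _).1 (hI.epi (homOfLE hle).op) x
  have hu : ((unitJ j).app I).app V s = x := by
    rw [Scheme.Modules.restrictAdjunction_unit_app_app]
    exact hs
  rw [← hu]
  exact congr(($e).app V s)

variable [QuasiCompact j] [HasInjectiveResolutions Y.Modules]

omit [QuasiCompact j] in
include j in
theorem hasInjectiveResolutions_source : HasInjectiveResolutions U.Modules := inferInstance

theorem isQCoh_gammaZ_rightDerived (M : Y.Modules) (hM : Coh.IsQCoh M) (q : ℕ) :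
    Coh.IsQCoh ((LocCohZ.HZshM j q).obj M) := by
  haveI := SpObjSS.enoughInjectives_of_hasInjectiveResolutions (C := Y.Modules)
  haveI : HasInjectiveResolutions U.Modules := hasInjectiveResolutions_source j
  haveI := SpObjSS.enoughInjectives_of_hasInjectiveResolutions (C := U.Modules)
  let E := Scheme.Modules.restrictFunctor j
  let G := Scheme.Modules.pushforward j
  haveI : PreservesFiniteLimits G := QCoh.preservesFiniteLimits_push j
  haveI : PreservesFiniteColimits E := inferInstance
  haveI : E.Additive := Functor.additive_of_preserves_binary_products _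
  haveI : PreservesFiniteLimits (E ⋙ G) := comp_preservesFiniteLimits _ _
  let η := unitJ j
  let ι := gammaι j
  have hw : ∀ X, ι.app X ≫ η.app X = 0 := fun X => kernel.condition _
  have hker : ∀ X, IsLimit (KernelFork.ofι (ι.app X) (hw X)) := fun X => kernelIsKernel _
  haveI := preservesFiniteLimits_kernel ι η hw hker
  have hη : ∀ X : Y.Modules, Injective X → Epi (η.app X) := fun X hX =>
    epi_unitJ_of_flasque j X (haveI := hX; QCoh.isFlasqueMod_of_injective X)
  have hR : Coh.IsQCoh (M.restrict j) := QCoh.isQCoh_restrict j hM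
  rcases q with _ | _ | k
  · exact (QCoh.isQCoh_iff_iso ((DCoh.gammaZ j).rightDerivedZeroIsoSelf.app M)).2
      (QCoh.isQCoh_kernel hM (QCoh.isQCoh_pushforward j hR) _)
  · obtain ⟨e⟩ := SiteBase.nonempty_rightDerived_one_iso ι η hw hker hη
    refine (QCoh.isQCoh_iff_iso (e.app M ≪≫ ?_)).2
      (QCoh.isQCoh_cokernel hM (QCoh.isQCoh_pushforward j hR) (η.app M))
    exact (SiteBase.cokerAt η M).coconePointUniqueUpToIso (colimit.isColimit _)
  · obtain ⟨e⟩ := SiteBase.nonempty_rightDerived_succ_iso ι η hw hker hη k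
    obtain ⟨e'⟩ := SiteBase.nonempty_rightDerived_precomp_of_acyclic E G (fun Q hQ i =>
      QCoh.isZero_Rpush_of_flasque j _ (by
        haveI := hQ
        exact ⟨fun {_ _} i => (QCoh.isFlasqueMod_of_injective Q).epi (j.opensFunctor.map i.unop).op⟩) i) (k + 1)
    exact (QCoh.isQCoh_iff_iso ((e ≪≫ e').app M)).2 (QCoh.isQCoh_Rpush j hR (k + 1))

end Groth.Agent.LocCohDepth
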