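import Groth.Agent.LocCohDepth.GammaQCoh
import Groth.Agent.FlasqueSupp.Core
import Groth.Agent.SiteBase.DerivedComp
import Groth.Agent.SiteBase.Rpush
import Groth.Agent.AmpleVan.RelCrit

/-!
# Local cohomology sheaves of modules and of abelian sheaves agree
-/

set_option autoImplicit false

universe u

open CategoryTheory CategoryTheory.Limits AlgebraicGeometry Opposite TopologicalSpace

namespace Groth.Agent.LocCohDepth

variable {X : Scheme.{u}} (U : X.Opens)

/-- The underlying abelian sheaf, on the underlying space. -/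
noncomputable abbrev abF (X : Scheme.{u}) : X.Modules ⥤ CohTop.Ab X.carrier := QCoh.toAbFunctor X

theorem unitJ_app_eq_zero_iff (F : X.Modules) (V : X.Opens) (s : Γ(F, V)) :
    ((unitJ U.ι).app F).app V s = 0 ↔ F.presheaf.map (homOfLE (inf_le_right : U ⊓ V ≤ V)).op s = 0 := by
  rw [Scheme.Modules.restrictAdjunction_unit_app_app]
  have hV : U.ι ''ᵁ (U.ι ⁻¹ᵁ V) = U ⊓ V := by
    rw [Scheme.Hom.image_preimage_eq_opensRange_inf, Scheme.Opens.opensRange_ι]
  have key : ∀ (W : X.Opens) (h : W ≤ V), W = U ⊓ V → (F.presheaf.map (homOfLE h).op s = 0 ↔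
      F.presheaf.map (homOfLE (inf_le_right : U ⊓ V ≤ V)).op s = 0) := by
    intro W h e
    subst e
    rfl
  exact key _ _ hV

theorem nonempty_gammaZ_toAb_iso :
    Nonempty (DCoh.gammaZ U.ι ⋙ abF X ≅ abF X ⋙ LocCohZ.sectSuppF (X := X.carrier) U) := by
  let a := fun F : X.Modules => (abF X).map (kernel.ι ((unitJ U.ι).app F))
  let b := fun F : X.Modules =>
    kernel.ι ((TopCat.Sheaf.pullbackPushforwardAdjunction AddCommGrpCat.{u} (CohCx.incl (X := X.carrier) U)).unit.app
      ((abF X).obj F))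
  have ha : ∀ F : X.Modules, a F ≫
      (TopCat.Sheaf.pullbackPushforwardAdjunction AddCommGrpCat.{u} (CohCx.incl (X := X.carrier) U)).unit.app
        ((abF X).obj F) = 0 := fun F => by
    apply CategoryTheory.Sheaf.hom_ext
    ext V t
    refine (SuppFamLib.unit_app_eq_zero_iff (X := X.carrier) U ((abF X).obj F) V.unop _).2 ?_
    refine (unitJ_app_eq_zero_iff U F V.unop ((kernel.ι ((unitJ U.ι).app F)).app V.unop t)).1 ?_
    exact congr(($(kernel.condition ((unitJ U.ι).app F))).app V.unop t)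
  have hb : ∀ F : X.Modules, b F ≫ (abF X).map ((unitJ U.ι).app F) = 0 := fun F => by
    apply CategoryTheory.Sheaf.hom_ext
    ext V t
    refine (unitJ_app_eq_zero_iff U F V.unop _).2 ?_
    exact (SuppFamLib.unit_app_eq_zero_iff (X := X.carrier) U ((abF X).obj F) V.unop _).1
      ((SuppFamLib.exists_kernel_section_iff _ V.unop _).1 ⟨t, rfl⟩)
  let hl := fun F : X.Modules => KernelFork.mapIsLimit _ (kernelIsKernel ((unitJ U.ι).app F)) (abF X)
  let f := fun F : X.Modules => kernel.lift _ (a F) (ha F)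
  let g := fun F : X.Modules => (KernelFork.IsLimit.lift' (hl F) (b F) (hb F)).1
  have hf : ∀ F, f F ≫ b F = a F := fun F => kernel.lift_ι _ _ _
  have hg : ∀ F, g F ≫ a F = b F := fun F => (KernelFork.IsLimit.lift' (hl F) (b F) (hb F)).2
  haveI : ∀ F, Mono (a F) := fun F => mono_of_isLimit_fork (hl F)
  haveI : ∀ F, Mono (b F) := fun F => inferInstanceAs (Mono (kernel.ι _))
  refine ⟨NatIso.ofComponents
    (fun F => { hom := f F, inv := g F, hom_inv_id := ?_, inv_hom_id := ?_ }) fun {F G} φ => ?_⟩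
  · refine (cancel_mono (a F)).1 ?_
    exact (Category.assoc _ _ _).trans ((congrArg (fun t => f F ≫ t) (hg F)).trans
      ((hf F).trans (Category.id_comp _).symm))
  · refine (cancel_mono (b F)).1 ?_
    exact (Category.assoc _ _ _).trans ((congrArg (fun t => g F ≫ t) (hf F)).trans
      ((hg F).trans (Category.id_comp _).symm))
  · refine (cancel_mono (b G)).1 ?_
    have h1 : (abF X).map ((DCoh.gammaZ U.ι).map φ) ≫ a G = a F ≫ (abF X).map φ := by
      exact ((abF X).map_comp ((DCoh.gammaZ U.ι).map φ) (kernel.ι ((unitJ U.ι).app G))).symm.trans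
        ((congrArg (abF X).map (kernel.lift_ι _ _ _)).trans
          ((abF X).map_comp (kernel.ι ((unitJ U.ι).app F)) φ))
    have h2 : (LocCohZ.sectSuppF (X := X.carrier) U).map ((abF X).map φ) ≫ b G = b F ≫ (abF X).map φ :=
      kernel.lift_ι _ _ _
    refine (Category.assoc _ _ _).trans ((congrArg (fun t => (abF X).map ((DCoh.gammaZ U.ι).map φ) ≫ t) (hf G)).trans ?_)
    refine h1.trans (Eq.trans ?_ (Category.assoc _ _ _).symm)
    refine Eq.trans ?_ (congrArg (fun t => f F ≫ t) h2).symm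
    exact (congrArg (fun t => t ≫ (abF X).map φ) (hf F)).symm.trans (Category.assoc _ _ _)

theorem nonempty_HZshM_toAb_iso [HasInjectiveResolutions X.Modules] (q : ℕ) :
    Nonempty (LocCohZ.HZshM U.ι q ⋙ abF X ≅ abF X ⋙ LocCohZ.HZsh (X := X.carrier) U q) := by
  haveI := SpObjSS.enoughInjectives_of_hasInjectiveResolutions (C := X.Modules)
  haveI : PreservesFiniteColimits (abF X) := (abF X).preservesFiniteColimits_of_preservesHomology
  haveI := FlasqueSupp.preservesFiniteLimits_sectSuppF (X := X.carrier) U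
  obtain ⟨e⟩ := nonempty_gammaZ_toAb_iso U
  obtain ⟨e'⟩ := SiteBase.nonempty_rightDerived_precomp_of_acyclic (abF X) (LocCohZ.sectSuppF (X := X.carrier) U)
    (fun Q hQ i => FlasqueSupp.isZero_HZsh (X := X.carrier) U _ (haveI := hQ; QCoh.isFlasqueMod_of_injective Q) i) q
  exact ⟨(SiteBase.rightDerivedCompIso (DCoh.gammaZ U.ι) (abF X) q).symm ≪≫ SiteBase.rightDerivedCongr e q ≪≫ e'⟩

theorem isZero_HZshM_of [HasInjectiveResolutions X.Modules] (q : ℕ) (F : X.Modules)
    (h : IsZero ((LocCohZ.HZsh (X := X.carrier) U q).obj (Coh.toAb F))) :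
    IsZero ((LocCohZ.HZshM U.ι q).obj F) := by
  obtain ⟨e⟩ := nonempty_HZshM_toAb_iso U q
  exact AmpleVan.RelCrit.isZero_of_toAb (h.of_iso (e.app F))

end Groth.Agent.LocCohDepth
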