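import Groth.Agent.LocCohDepth.Chart
import Groth.Agent.LC.DepthLoc
import Groth.Agent.ZClosLib.ClosedDepth
import Groth.Agent.GrLib8.HZshPre

/-!
# Local cohomology sheaves vanish below `n` iff the depth along the closed subset is at least `n`
-/

set_option autoImplicit false

universe u

open CategoryTheory CategoryTheory.Limits AlgebraicGeometry Opposite TopologicalSpace

namespace Groth.Agent.LocCohDepth

variable {X : Scheme.{u}} [IsLocallyNoetherian X]

theorem vanishing_affine_iff (U : X.Opens) {M : X.Modules} (hM : Coh.IsCoh M) {W : X.Opens}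
    (hW : IsAffineOpen W) (n : ℕ) :
    (∀ i < n, Subsingleton (LocCohZ.HZ (X := X.carrier) (Coh.toAb M) i (inf_le_left : W ⊓ U ≤ W))) ↔
      ∀ x ∈ W, x ∉ U → (n : ℕ∞) ≤ LocCoh.depth (X.presheaf.stalk x) (M.presheaf.stalk x) := by
  haveI : IsNoetherianRing Γ(X, W) := IsLocallyNoetherian.component_noetherian ⟨W, hW⟩
  haveI := ZClosLib.finite_sections hM hW
  obtain ⟨I, hmem, key⟩ := exists_chart U hM.1 hW
  refine (forall₂_congr fun i _ => key i).trans ((vanishing_iff I n _).trans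
    ((LC.le_idealDepth_iff_H I Γ(M, W) n).symm.trans ?_))
  rw [LC.idealDepth_eq_iInf_depth, le_iInf₂_iff]
  refine ⟨fun h x hx hxU => ?_, fun h q hq => ?_⟩
  · rw [← ZClosLib.depth_stalk_eq hM.1 hW hx]
    refine h _ ((hmem _).2 ?_)
    rw [hW.fromSpec_primeIdealOf ⟨x, hx⟩]
    exact hxU
  · obtain ⟨y, hy, rfl⟩ := QCoh.exists_point hW q
    rw [ZClosLib.depth_stalk_eq hM.1 hW hy]
    refine h y hy ?_
    have := (hmem _).1 hq
    rwa [hW.fromSpec_primeIdealOf ⟨y, hy⟩] at this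

theorem HZsh_isZero_iff_depth (U : X.Opens) {M : X.Modules} (hM : Coh.IsCoh M) (n : ℕ) :
    (∀ i : ℕ, i < n → IsZero ((LocCohZ.HZsh (X := X.carrier) U i).obj (Coh.toAb M))) ↔
      ∀ x : X, x ∉ (U : Set X) → (n : ℕ∞) ≤ LocCoh.depth (X.presheaf.stalk x) (M.presheaf.stalk x) := by
  refine ⟨fun h x hx => ?_, fun h i hi => ?_⟩
  · obtain ⟨W, hW, hxW, -⟩ := exists_isAffineOpen_mem_and_subset (x := x) (U := ⊤) trivial
    exact (vanishing_affine_iff U hM hW n).1
      (fun i hi => (GrLib8.HZshPre.isZero_iff_subsingleton (X := X.carrier) U (Coh.toAb M) n).1 h W i hi) x hxW hx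
  · refine GrLib8.HZshPre.isZero_of_locallyZero (X := X.carrier) U (Coh.toAb M) i fun V z y hy => ?_
    obtain ⟨W, hW, hyW, hWV⟩ := exists_isAffineOpen_mem_and_subset (x := y) (U := V) hy
    exact ⟨W, hWV, hyW, ((vanishing_affine_iff U hM hW n).2 (fun x _ hx => h x hx) i hi).elim _ _⟩

end Groth.Agent.LocCohDepth
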