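import Groth.Prelude.Def_Wider
import Groth.Prelude.Def_DerCA
import Groth.Agent.H9Misc.ExtCechTors
import Groth.Agent.H9Misc.TelLocal
import Groth.Agent.EtGlue7.FlatTorsion
import Mathlib.Algebra.Category.ModuleCat.ChangeOfRings
import Mathlib.RingTheory.Flat.Localization

/-!
# Maps out of torsion modules and flat base change in derived categories
-/

set_option autoImplicit false
set_option linter.style.haveILetI false
set_option backward.isDefEq.respectTransparency false
set_option backward.isDefEq.respectTransparency.types false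

universe u

open CategoryTheory CategoryTheory.Limits CategoryTheory.Pretriangulated
open scoped TensorProduct

attribute [local instance] HasDerivedCategory.standard

namespace Groth.Agent.LocCohDepth.TorsBC

variable {A : Type u} [CommRing A]

abbrev Cx (A : Type u) [CommRing A] := CochainComplex (ModuleCat.{u} A) ℤ

section Orth

variable (M : ModuleCat.{u} A)

/-- The shifts of `M[0]`. -/
noncomputable abbrev S (n : ℤ) : DerivedCategory (ModuleCat.{u} A) :=
  ((DerivedCategory.singleFunctor (ModuleCat.{u} A) 0).obj M)⟦n⟧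

/-- No maps from the shifts of `M`. -/
def Orth (X : DerivedCategory (ModuleCat.{u} A)) : Prop := ∀ n, Subsingleton (S M n ⟶ X)

/-- Composition with `f` is bijective on maps from the shifts of `M`. -/
def Bij {X Y : DerivedCategory (ModuleCat.{u} A)} (f : X ⟶ Y) : Prop :=
  ∀ n, Function.Bijective fun x : S M n ⟶ X => x ≫ f

variable {M}

theorem bij_of_isIso {X Y : DerivedCategory (ModuleCat.{u} A)} (f : X ⟶ Y) [IsIso f] : Bij M f := fun _ =>
  ⟨fun a b h => (cancel_mono f).1 h, fun y => ⟨y ≫ inv f, by simp⟩⟩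

theorem bij_comp {X Y Z : DerivedCategory (ModuleCat.{u} A)} {f : X ⟶ Y} {g : Y ⟶ Z} (hf : Bij M f) (hg : Bij M g) :
    Bij M (f ≫ g) := fun n => by
  convert (hg n).comp (hf n) using 1
  funext x
  exact (Category.assoc _ _ _).symm

theorem bij_of_comp_left {X Y Z : DerivedCategory (ModuleCat.{u} A)} {f : X ⟶ Y} {g : Y ⟶ Z} (hf : Bij M f)
    (hfg : Bij M (f ≫ g)) : Bij M g := fun n => by
  refine (Function.Bijective.of_comp_iff _ (hf n)).1 ?_
  convert hfg n using 1
  funext x
  exact Category.assoc _ _ _

theorem bij_of_comp_right {X Y Z : DerivedCategory (ModuleCat.{u} A)} {f : X ⟶ Y} {g : Y ⟶ Z} (hg : Bij M g)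
    (hfg : Bij M (f ≫ g)) : Bij M f := fun n => by
  refine (Function.Bijective.of_comp_iff' (hg n) _).1 ?_
  convert hfg n using 1
  funext x
  exact Category.assoc _ _ _

theorem orth_of_iso {X Y : DerivedCategory (ModuleCat.{u} A)} (e : X ≅ Y) (h : Orth M X) : Orth M Y := fun n =>
  @Equiv.subsingleton _ _ e.symm.homToEquiv (h n)

theorem subsingleton_shift {X : DerivedCategory (ModuleCat.{u} A)} (h : Orth M X) (n a : ℤ) :
    Subsingleton (S M n ⟶ X⟦a⟧) :=
  @Equiv.subsingleton _ _ (((shiftEquiv' (DerivedCategory (ModuleCat.{u} A)) (-a) a (neg_add_cancel a)).toAdjunction.homEquiv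
    _ _).symm.trans ((shiftFunctorAdd (DerivedCategory (ModuleCat.{u} A)) n (-a)).app _).symm.homFromEquiv) (h (n + -a))

theorem bij_of_triangle (T : Triangle (DerivedCategory (ModuleCat.{u} A))) (hT : T ∈ distTriang _)
    (h : Orth M T.obj₃) : Bij M T.mor₁ := fun n => by
  refine ⟨fun x x' hx => sub_eq_zero.1 ?_, fun y => ?_⟩
  · obtain ⟨z, hz⟩ := Triangle.coyoneda_exact₂ T.invRotate (inv_rot_of_distTriang T hT) (x - x')
      ((Preadditive.sub_comp _ _ _).trans (sub_eq_zero.2 hx))
    have h0 : z = 0 := (subsingleton_shift h n (-1)).elim _ _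
    rw [hz, h0]
    exact Limits.zero_comp
  · obtain ⟨z, hz⟩ := Triangle.coyoneda_exact₂ T hT y ((h n).elim _ _)
    exact ⟨z, hz.symm⟩

theorem bij_arrow_iso {X Y X' Y' : DerivedCategory (ModuleCat.{u} A)} {f : X ⟶ Y} {f' : X' ⟶ Y'} (a : X ≅ X')
    (b : Y ≅ Y') (w : f ≫ b.hom = a.hom ≫ f') (hf : Bij M f) : Bij M f' := by
  refine bij_of_comp_left (bij_of_isIso a.hom) ?_
  rw [← w]
  exact bij_comp hf (bij_of_isIso b.hom)

end Orth

section Functor

variable (G : ModuleCat.{u} A ⥤ ModuleCat.{u} A) [G.Additive] [PreservesFiniteLimits G] [PreservesFiniteColimits G]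

theorem bij_map_cocone_fst {M : ModuleCat.{u} A} {K L : Cx A} (φ : K ⟶ L)
    (hL : Orth M (DerivedCategory.Q.obj ((G.mapHomologicalComplex _).obj L))) :
    Bij M (DerivedCategory.Q.map ((G.mapHomologicalComplex _).map (CochainComplex.mappingCocone.fst φ))) := by
  let T := (DerivedCategory.Q (C := ModuleCat.{u} A)).mapTriangle.obj (CochainComplex.mappingCocone.triangle φ)
  have hT : T ∈ distTriang _ :=
    (rotate_distinguished_triangle T).2 (isomorphic_distinguished _
      (DerivedCategory.mappingCone_triangle_distinguished φ) _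
      ((((DerivedCategory.Q (C := ModuleCat.{u} A)).mapTriangleRotateIso).app _) ≪≫
        (DerivedCategory.Q (C := ModuleCat.{u} A)).mapTriangle.mapIso (CochainComplex.mappingCocone.rotateTriangleIso φ)))
  have h := bij_of_triangle (M := M) (G.mapDerivedCategory.mapTriangle.obj T) (G.mapDerivedCategory.map_distinguished T hT)
    (orth_of_iso (G.mapDerivedCategoryFactors.app L).symm hL)
  exact bij_arrow_iso (G.mapDerivedCategoryFactors.app _) (G.mapDerivedCategoryFactors.app _)
    (G.mapDerivedCategoryFactors.hom.naturality (CochainComplex.mappingCocone.fst φ)) h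

/-- The projection of the extended Čech complex to the module. -/
noncomputable def proj (N : ModuleCat.{u} A) : ∀ fs : List A,
    DerCA.extCech N fs ⟶ (HomologicalComplex.single (ModuleCat.{u} A) (ComplexShape.up ℤ) 0).obj N
  | [] => 𝟙 _
  | f :: fs => CochainComplex.mappingCocone.fst (DerCA.locCxUnit (Submonoid.powers f) (DerCA.extCech N fs)) ≫ proj N fs

variable (hG : ∀ (r : A) (X : ModuleCat.{u} A), G.map (r • 𝟙 X) = r • 𝟙 (G.obj X))

include hG in
theorem bij_map_proj {M : ModuleCat.{u} A} (hM : ∀ (K : Cx A) (g : A), (∀ x : M, ∃ n : ℕ, g ^ n • x = 0) →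
      LC.ExtCech.IsUnitOn g K → Orth M (DerivedCategory.Q.obj K))
    (N : ModuleCat.{u} A) : ∀ fs : List A, (∀ f ∈ fs, ∀ x : M, ∃ n : ℕ, f ^ n • x = 0) →
      Bij M (DerivedCategory.Q.map ((G.mapHomologicalComplex _).map (proj N fs)))
  | [], _ => by
    show Bij M (DerivedCategory.Q.map ((G.mapHomologicalComplex _).map (𝟙 _)))
    rw [CategoryTheory.Functor.map_id, CategoryTheory.Functor.map_id]
    exact bij_of_isIso _
  | f :: fs, h => by
    show Bij M (DerivedCategory.Q.map ((G.mapHomologicalComplex _).map (_ ≫ proj N fs)))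
    rw [Functor.map_comp, Functor.map_comp]
    refine bij_comp (bij_map_cocone_fst G _ (hM _ f (h f List.mem_cons_self) fun i => ?_))
      (bij_map_proj hM N fs fun g hg => h g (List.mem_cons_of_mem _ hg))
    show IsIso (f • 𝟙 (G.obj _))
    rw [← hG]
    haveI : IsIso (f • 𝟙 ((DerCA.locFunctor (Submonoid.powers f)).obj ((DerCA.extCech N fs).X i))) := by
      rw [ConcreteCategory.isIso_iff_bijective]
      exact (Module.End.isUnit_iff _).1 (IsLocalizedModule.map_units
        (LocalizedModule.mkLinearMap (Submonoid.powers f) ((DerCA.extCech N fs).X i)) (⟨f, 1, pow_one f⟩ : Submonoid.powers f))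
    exact Functor.map_isIso G _

end Functor

section Adj

variable {B : Type u} [CommRing B] (φ : A →+* B)

theorem extend_map_smul (r : A) (X : ModuleCat.{u} A) :
    (ModuleCat.extendScalars.{u, u, u} φ).map (r • 𝟙 X) = φ r • 𝟙 ((ModuleCat.extendScalars.{u, u, u} φ).obj X) := by
  letI := φ.toAlgebra
  refine ModuleCat.ExtendScalars.hom_ext fun x => ?_
  show ((1 : B) ⊗ₜ[A] (r • x)) = φ r • ((1 : B) ⊗ₜ[A] x)
  rw [TensorProduct.tmul_smul]
  exact (IsScalarTower.algebraMap_smul B r _).symm

theorem comp_map_smul (r : A) (X : ModuleCat.{u} A) :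
    (ModuleCat.extendScalars.{u, u, u} φ ⋙ ModuleCat.restrictScalars.{u} φ).map (r • 𝟙 X) =
      r • 𝟙 ((ModuleCat.extendScalars.{u, u, u} φ ⋙ ModuleCat.restrictScalars.{u} φ).obj X) := by
  rw [Functor.comp_map, extend_map_smul]
  rfl

variable [PreservesFiniteLimits (ModuleCat.extendScalars.{u, u, u} φ)]

/-- Maps into restricted complexes are maps out of the extension. -/
theorem nonempty_homEquiv (M : ModuleCat.{u} A) (n : ℤ) (Z : Cx B) :
    Nonempty ((S M n ⟶ DerivedCategory.Q.obj (((ModuleCat.restrictScalars.{u} φ).mapHomologicalComplex _).obj Z)) ≃+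
      (S ((ModuleCat.extendScalars.{u, u, u} φ).obj M) n ⟶ DerivedCategory.Q.obj Z)) := by
  let E := ModuleCat.extendScalars.{u, u, u} φ
  let R := ModuleCat.restrictScalars.{u} φ
  let a := H9Misc.TelLocal.derivedAdjunction (ModuleCat.extendRestrictScalarsAdj.{u, u, u} φ)
  let e1 : E.mapDerivedCategory.obj (S M n) ≅ S (E.obj M) n :=
    (E.mapDerivedCategory.commShiftIso n).app _ ≪≫
      (shiftFunctor _ n).mapIso ((E.mapDerivedCategorySingleFunctor 0).app M)
  let e2 := R.mapDerivedCategoryFactors.app Z
  haveI : E.mapDerivedCategory.Additive := inferInstance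
  refine ⟨{ toFun := fun x => e1.inv ≫ (a.homEquiv _ _).symm (x ≫ e2.inv)
            invFun := fun y => a.homEquiv _ _ (e1.hom ≫ y) ≫ e2.hom
            left_inv := fun x => by simp
            right_inv := fun y => by simp
            map_add' := fun x y => ?_ }⟩
  rw [Adjunction.homEquiv_counit, Adjunction.homEquiv_counit, Adjunction.homEquiv_counit, Preadditive.add_comp,
    Functor.map_add, Preadditive.add_comp, Preadditive.comp_add]

end Adj

theorem orth_of_isUnitOn_aux {B : Type u} [CommRing B] (φ : A →+* B) {M : ModuleCat.{u} A} (K : Cx A) (g : A)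
    (hloc : @IsLocalization.Away A _ g B _ φ.toAlgebra) (hM : ∀ x : M, ∃ n : ℕ, g ^ n • x = 0)
    (hK : LC.ExtCech.IsUnitOn g K) : Orth M (DerivedCategory.Q.obj K) := by
  letI := φ.toAlgebra
  haveI : IsLocalization.Away g B := hloc
  haveI : PreservesFiniteLimits (ModuleCat.extendScalars.{u, u, u} φ) :=
    ModuleCat.preservesFiniteLimits_extendScalars_of_flat
      (RingHom.flat_algebraMap_iff.2 (IsLocalization.flat B (Submonoid.powers g)))
  let E := ModuleCat.extendScalars.{u, u, u} φ
  let R := ModuleCat.restrictScalars.{u} φ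
  let u : K ⟶ (R.mapHomologicalComplex _).obj ((E.mapHomologicalComplex _).obj K) :=
    { f := fun i => (ModuleCat.extendRestrictScalarsAdj.{u, u, u} φ).unit.app (K.X i)
      comm' := fun i j _ => ((ModuleCat.extendRestrictScalarsAdj.{u, u, u} φ).unit.naturality (K.d i j)).symm }
  have hu : ∀ i, IsIso (u.f i) := fun i => by
    rw [ConcreteCategory.isIso_iff_bijective]
    let P := Submonoid.powers g
    let l := TensorProduct.mk A B (K.X i) 1
    haveI : IsLocalizedModule P l :=
      (isLocalizedModule_iff_isBaseChange P B l).2 (TensorProduct.isBaseChange A (K.X i) B)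
    have hg : ∀ s : P, Function.Bijective fun m : K.X i => (s : A) • m := by
      rintro ⟨_, k, rfl⟩
      haveI := hK i
      have h1 : Function.Bijective fun m : K.X i => g • m := ConcreteCategory.bijective_of_isIso (g • 𝟙 (K.X i))
      induction k with
      | zero =>
        rw [show (fun m : K.X i => ((fun x => g ^ x) 0 : A) • m) = id from funext fun m => by simp]
        exact Function.bijective_id
      | succ k ih => simpa [Function.comp_def, pow_succ', mul_smul] using h1.comp ih
    show Function.Bijective l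
    refine ⟨fun x y hxy => ?_, fun y => ?_⟩
    · obtain ⟨c, hc⟩ := (IsLocalizedModule.eq_iff_exists P l).1 hxy
      exact (hg c).1 hc
    · obtain ⟨⟨m, s⟩, rfl⟩ := IsLocalizedModule.mk'_surjective P l y
      obtain ⟨m', rfl⟩ := (hg s).2 m
      refine ⟨m', ?_⟩
      show _ = IsLocalizedModule.mk' l _ s
      rw [eq_comm, IsLocalizedModule.mk'_eq_iff, Submonoid.smul_def, map_smul]
  haveI : IsIso u := HomologicalComplex.Hom.isIso_of_components u
  refine orth_of_iso (DerivedCategory.Q.mapIso (asIso u)).symm fun n => ?_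
  obtain ⟨e⟩ := nonempty_homEquiv φ M n ((E.mapHomologicalComplex _).obj K)
  have hz : IsZero (E.obj M) := by
    refine (ModuleCat.isZero_iff_subsingleton (M := E.obj M)).2 ?_
    have : Subsingleton (B ⊗[A] M) := by
      refine subsingleton_of_forall_eq 0 fun t => ?_
      induction t using TensorProduct.induction_on with
      | zero => rfl
      | tmul a x =>
        obtain ⟨n, hn⟩ := hM x
        obtain ⟨v, hv⟩ := (IsLocalization.Away.algebraMap_isUnit (S := B) g).pow n
        have ha : a = g ^ n • ((↑v⁻¹ : B) * a) := by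
          rw [Algebra.smul_def, map_pow, ← hv, ← mul_assoc, Units.mul_inv, one_mul]
        rw [ha, TensorProduct.smul_tmul, hn, TensorProduct.tmul_zero]
      | add a b ha hb => rw [ha, hb, add_zero]
    exact this
  haveI : Subsingleton (S (E.obj M) n ⟶ DerivedCategory.Q.obj ((E.mapHomologicalComplex _).obj K)) :=
    ⟨fun a b => ((shiftFunctor _ n).map_isZero ((DerivedCategory.singleFunctor _ 0).map_isZero hz)).eq_of_src a b⟩
  exact e.toEquiv.subsingleton

theorem orth_of_isUnitOn {M : ModuleCat.{u} A} (K : Cx A) (g : A) (hM : ∀ x : M, ∃ n : ℕ, g ^ n • x = 0)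
    (hK : LC.ExtCech.IsUnitOn g K) : Orth M (DerivedCategory.Q.obj K) := by
  refine orth_of_isUnitOn_aux (algebraMap A (Localization.Away g)) K g ?_ hM hK
  rw [show (algebraMap A (Localization.Away g)).toAlgebra = (inferInstance : Algebra A (Localization.Away g)) from
    Algebra.algebra_ext _ _ fun _ => rfl]
  infer_instance

end Groth.Agent.LocCohDepth.TorsBC
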