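import Groth.Agent.LocCohDepth.Affine

/-!
# Cohomology with supports on a Noetherian affine scheme and local cohomology of modules: each degree
-/

set_option autoImplicit false

universe u

open CategoryTheory CategoryTheory.Limits AlgebraicGeometry Opposite TopologicalSpace

namespace Groth.Agent.LocCohDepth

variable {A : Type u} [CommRing A] [IsNoetherianRing A] (I : Ideal A)

omit [IsNoetherianRing A] in
theorem map_toSec {N M : ModuleCat.{u} A} (g : N ⟶ M) (U : (Spec (CommRingCat.of A)).Opens) (m : N) :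
    ((((QCoh.toAbFunctor (Spec (CommRingCat.of A))).map ((tilde.functor (CommRingCat.of A)).map g))).hom.app (op U)).hom
        (LocCohSec.toSec (R := CommRingCat.of A) N U m) =
      LocCohSec.toSec (R := CommRingCat.of A) M U (g.hom m) :=
  ConcreteCategory.congr_hom (tilde.toOpen_map_app (R := CommRingCat.of A) g U) m

theorem mem_torsion_iff_res (N : ModuleCat.{u} A) (m : N) :
    m ∈ DRing.torsionSub I N ↔
      LocCohSec.res (R := CommRingCat.of A) N (le_top : LocCoh.puncturedOpen A I ≤ ⊤)
        (LocCohSec.toSec (R := CommRingCat.of A) N ⊤ m) = 0 := by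
  rw [LocCohSec.res_toSec, ← LinearMap.mem_ker, LocCohSec.mem_ker_toSec]
  rfl

theorem exists_eq_toSec (N : ModuleCat.{u} A)
    (s : LocCohSec.sec (R := CommRingCat.of A) N ⊤) : ∃ m : N, LocCohSec.toSec (R := CommRingCat.of A) N ⊤ m = s := by
  haveI := tilde.isIso_toOpen_top (R := CommRingCat.of A) (M := N)
  exact (ConcreteCategory.bijective_of_isIso (tilde.toOpen (R := CommRingCat.of A) N ⊤)).2 s

/-- Vanishing in a fixed degree. -/
theorem subsingleton_hz_iff : ∀ (i : ℕ) (N : ModuleCat.{u} A),
    Subsingleton (hz I N i) ↔ Subsingleton ((localCohomology I i).obj N) := by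
  intro i
  induction i with
  | zero => exact fun N => (subsingleton_hz_zero_iff I N).trans (LC.subsingleton_H0_iff I N).symm
  | succ i ih =>
    intro N
    let S : ShortComplex (ModuleCat.{u} A) :=
      ShortComplex.mk (Injective.ι N) (cokernel.π (Injective.ι N)) (cokernel.condition _)
    have hS : S.ShortExact :=
      { exact := ShortComplex.exact_of_g_is_cokernel _ (cokernelIsCokernel _) }
    haveI : Injective S.X₂ := inferInstanceAs (Injective (Injective.under N))
    haveI : Module.Injective A S.X₂ := Module.injective_module_of_injective_object A S.X₂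
    have hT := shortExact_tilde (R := CommRingCat.of A) hS
    rcases i with _ | i
    · refine (@subsingleton_one_iff _ _ _ (le_top : LocCoh.puncturedOpen A I ≤ _) _ hT
        (isFlasque_tilde S.X₂)).trans ?_
      rw [surjective_map_zero_iff]
      have hsurj : Subsingleton ((localCohomology I 1).obj S.X₁) ↔
          ∀ q ∈ DRing.torsionSub I S.X₃, ∃ e ∈ DRing.torsionSub I S.X₂, S.g.hom e = q := by
        refine ⟨fun _ q hq => ?_, fun h => subsingleton_of_forall_eq 0 fun z => ?_⟩
        · obtain ⟨w, hw⟩ := (LC.exact₃ I 0 hS 1 rfl ((LC.H0Equiv I S.X₃).symm ⟨q, hq⟩)).1 (Subsingleton.elim _ _)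
          refine ⟨(LC.H0Equiv I S.X₂ w).1, (LC.H0Equiv I S.X₂ w).2, ?_⟩
          rw [← LC.H0Equiv_natural I S.g w, hw, LinearEquiv.apply_symm_apply]
        · haveI := LC.subsingleton_of_injective I S.X₂ 0
          obtain ⟨w, rfl⟩ := (LC.exact₁ I 0 hS 1 rfl z).1 (Subsingleton.elim _ _)
          obtain ⟨e, he, hge⟩ := h _ (LC.H0Equiv I S.X₃ w).2
          refine (LC.exact₃ I 0 hS 1 rfl w).2 ⟨(LC.H0Equiv I S.X₂).symm ⟨e, he⟩, (LC.H0Equiv I S.X₃).injective
            (Subtype.ext ?_)⟩
          rw [LC.H0Equiv_natural I S.g, LinearEquiv.apply_symm_apply, hge]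
      refine Iff.trans ?_ hsurj.symm
      refine ⟨fun h q hq => ?_, fun h s => ?_⟩
      · obtain ⟨t, ht⟩ := h ⟨LocCohSec.toSec (R := CommRingCat.of A) S.X₃ ⊤ q, (mem_torsion_iff_res I _ q).1 hq⟩
        obtain ⟨e, he⟩ := exists_eq_toSec S.X₂ t.1
        refine ⟨e, (mem_torsion_iff_res I _ e).2 ((congrArg _ he).trans t.2), ?_⟩
        refine LocCohSec.toSec_top_injective S.X₃ ?_
        refine (map_toSec S.g ⊤ e).symm.trans ?_
        exact (congrArg _ he).trans ht
      · obtain ⟨q, hq⟩ := exists_eq_toSec S.X₃ s.1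
        obtain ⟨e, he, hge⟩ := h q ((mem_torsion_iff_res I _ q).2 ((congrArg _ hq).trans s.2))
        refine ⟨⟨LocCohSec.toSec (R := CommRingCat.of A) S.X₂ ⊤ e, (mem_torsion_iff_res I _ e).1 he⟩, ?_⟩
        refine (map_toSec S.g ⊤ e).trans ?_
        rw [hge]
        exact hq
    · refine (@subsingleton_add_two_iff _ _ _ (le_top : LocCoh.puncturedOpen A I ≤ _) _ hT
        (isFlasque_tilde S.X₂) i).trans ((ih S.X₃).trans ?_)
      refine ⟨fun _ => subsingleton_of_forall_eq 0 fun z => ?_, fun _ => subsingleton_of_forall_eq 0 fun z => ?_⟩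
      · haveI := LC.subsingleton_of_injective I S.X₂ (i + 1)
        obtain ⟨w, rfl⟩ := (LC.exact₁ I (i + 1) hS (i + 2) rfl z).1 (Subsingleton.elim _ _)
        rw [Subsingleton.elim w 0, map_zero]
      · haveI := LC.subsingleton_of_injective I S.X₂ i
        obtain ⟨w, rfl⟩ := (LC.exact₃ I (i + 1) hS (i + 2) rfl z).1 (Subsingleton.elim _ _)
        rw [Subsingleton.elim w 0, map_zero]

end Groth.Agent.LocCohDepth
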