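import Mathlib.Algebra.Module.LocalizedModule.Basic
import Mathlib.Algebra.Module.LocalizedModule.Away
import Mathlib.Algebra.Module.LocalizedModule.Submodule
import Mathlib.Algebra.Module.FinitePresentation
import Mathlib.Algebra.Module.Projective
import Mathlib.RingTheory.Localization.Module

/-!
# Modules that are finite projective on a basic cover, up to powers a direct summand of a free module
-/

set_option autoImplicit false

universe u

namespace Groth.Agent.LocCohDepth

variable {A : Type u} [CommRing A] {M : Type u} [AddCommGroup M] [Module A M]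

/-- A map from a finite free module that is surjective after inverting `g` has a section up to a power of `g`. -/
theorem exists_section_away {ι : Type u} [Fintype ι] [DecidableEq ι] (φ : (ι → A) →ₗ[A] M) (g : A)
    (hP : Module.Projective (Localization (Submonoid.powers g)) (LocalizedModule (Submonoid.powers g) M))
    (hφ : ∀ y : M, ∃ k : ℕ, g ^ k • y ∈ LinearMap.range φ) :
    ∃ (m : ℕ) (S : (ι → A) →ₗ[A] (ι → A)), (∀ v, φ (S v) = g ^ m • φ v) ∧
      ∀ x, φ x = 0 → ∃ l : ℕ, g ^ l • S x = 0 := by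
  let P := Submonoid.powers g
  let φ' := LocalizedModule.map P φ
  have hsurj : Function.Surjective φ' := fun z => by
    induction z using LocalizedModule.induction_on with | _ y s => ?_
    obtain ⟨k, x, hx⟩ := hφ y
    refine ⟨LocalizedModule.mk x ((⟨g ^ k, k, rfl⟩ : P) * s), ?_⟩
    rw [LocalizedModule.map_mk, hx]
    exact LocalizedModule.mk_cancel_common_left (⟨g ^ k, k, rfl⟩ : P) s y
  obtain ⟨s, hs⟩ := Module.projective_lifting_property φ' LinearMap.id hsurj
  have hb : ∀ j, ∃ (m : ℕ) (σ : ι → A), φ σ = g ^ m • φ (Pi.single j 1) ∧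
      LocalizedModule.mk σ 1 = g ^ m • s (LocalizedModule.mk (φ (Pi.single j 1)) 1) := by
    intro j
    obtain ⟨σ, ⟨_, a, rfl⟩, hσ⟩ : ∃ (σ : ι → A) (t : P), LocalizedModule.mk σ t = s (LocalizedModule.mk (φ (Pi.single j 1)) 1) := by
      generalize s (LocalizedModule.mk (φ (Pi.single j 1)) 1) = z
      induction z using LocalizedModule.induction_on with
      | _ σ t => exact ⟨σ, t, rfl⟩
    have h1 : LocalizedModule.mk (φ σ) (⟨g ^ a, a, rfl⟩ : P) = LocalizedModule.mk (φ (Pi.single j 1)) 1 := by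
      rw [← LocalizedModule.map_mk P φ, hσ]
      exact LinearMap.congr_fun hs _
    obtain ⟨⟨_, b, rfl⟩, hb⟩ := LocalizedModule.mk_eq.1 h1
    simp only [Submonoid.smul_def, OneMemClass.coe_one, one_smul] at hb
    refine ⟨b + a, g ^ b • σ, ?_, ?_⟩
    · rw [map_smul, pow_add, mul_smul]
      exact hb
    · rw [← hσ, LocalizedModule.smul'_mk, pow_add, mul_smul]
      exact LocalizedModule.mk_eq.2 ⟨1, by simp only [Submonoid.smul_def, OneMemClass.coe_one, one_smul]; exact smul_comm _ _ _⟩
  choose m σ hφσ hσ using hb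
  let m₀ := Finset.univ.sup m
  let b := Pi.basisFun A ι
  let S : (ι → A) →ₗ[A] (ι → A) := b.constr A fun j => g ^ (m₀ - m j) • σ j
  have hpow : ∀ j, g ^ (m₀ - m j) * g ^ m j = g ^ m₀ := fun j => by
    rw [← pow_add, Nat.sub_add_cancel (Finset.le_sup (Finset.mem_univ j))]
  refine ⟨m₀, S, fun v => ?_, fun x hx => ?_⟩
  · refine LinearMap.congr_fun (b.ext (f₁ := φ.comp S) (f₂ := g ^ m₀ • φ) fun j => ?_) v
    simp only [LinearMap.comp_apply, LinearMap.smul_apply, S, Module.Basis.constr_basis]
    rw [map_smul, hφσ, smul_smul, hpow, Pi.basisFun_apply]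
  · have e : (LocalizedModule.mkLinearMap P (ι → A)).comp S =
        g ^ m₀ • ((s.restrictScalars A).comp ((LocalizedModule.mkLinearMap P M).comp φ)) := b.ext fun j => by
      simp only [LinearMap.comp_apply, LinearMap.smul_apply, S, Module.Basis.constr_basis]
      rw [map_smul, LocalizedModule.mkLinearMap_apply, hσ, smul_smul, hpow, Pi.basisFun_apply]
      rfl
    have h0 : LocalizedModule.mkLinearMap P (ι → A) (S x) = 0 := by
      rw [← LinearMap.comp_apply, e, LinearMap.smul_apply, LinearMap.comp_apply, LinearMap.comp_apply, hx, map_zero, map_zero, smul_zero]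
    obtain ⟨⟨_, l, rfl⟩, hl⟩ := (IsLocalizedModule.eq_zero_iff P (LocalizedModule.mkLinearMap P (ι → A))).1 h0
    exact ⟨l, hl⟩

/-- A uniform power kills a finitely generated submodule of the torsion. -/
theorem exists_uniform_pow {N : Type*} [AddCommGroup N] [Module A N] {K : Submodule A N} (hK : K.FG) (g : A)
    {L : Type*} [AddCommGroup L] [Module A L] (S : N →ₗ[A] L) (h : ∀ x ∈ K, ∃ l : ℕ, g ^ l • S x = 0) :
    ∃ l : ℕ, ∀ x ∈ K, g ^ l • S x = 0 := by
  classical
  obtain ⟨t, rfl⟩ := hK
  choose l hl using fun x : {x // x ∈ t} => h x.1 (Submodule.subset_span x.2)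
  refine ⟨t.attach.sup l, fun x hx => ?_⟩
  induction hx using Submodule.span_induction with
  | mem y hy =>
    obtain ⟨d, hd⟩ := exists_add_of_le (Finset.le_sup (f := l) (Finset.mem_attach t ⟨y, hy⟩))
    rw [hd, add_comm, pow_add, mul_smul, hl ⟨y, hy⟩, smul_zero]
  | zero => rw [map_zero, smul_zero]
  | add a b _ _ ha hb => rw [map_add, smul_add, ha, hb, add_zero]
  | smul c a _ ha => rw [map_smul, smul_comm, ha, smul_zero]

/-- Generators of all the localisations, gathered in one finite free module. -/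
theorem exists_free_map {κ : Type u} [Finite κ] (f : κ → A)
    (hfin : ∀ i, Module.Finite (Localization (Submonoid.powers (f i))) (LocalizedModule (Submonoid.powers (f i)) M)) :
    ∃ (ι : Type u) (_ : Fintype ι) (φ : (ι → A) →ₗ[A] M), ∀ i, ∀ y : M, ∃ k : ℕ, f i ^ k • y ∈ LinearMap.range φ := by
  classical
  haveI := Fintype.ofFinite κ
  have hg : ∀ i, ∃ t : Finset M, ∀ y : M, ∃ k : ℕ, f i ^ k • y ∈ Submodule.span A (t : Set M) := by
    intro i
    let P := Submonoid.powers (f i)
    let l := LocalizedModule.mkLinearMap P M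
    obtain ⟨s, hs⟩ := (hfin i).fg_top
    choose num hnum using fun z : LocalizedModule P M => IsLocalizedModule.mk'_surjective P l z
    refine ⟨s.image fun z => (num z).1, fun y => ?_⟩
    let K : Submodule A M := Submodule.span A ((s.image fun z => (num z).1 : Finset M) : Set M)
    have hK : (⊤ : Submodule (Localization P) (LocalizedModule P M)) ≤ Submodule.localized' (Localization P) P l K := by
      rw [← hs, Submodule.span_le]
      intro z hz
      exact ⟨(num z).1, Submodule.subset_span (Finset.mem_image.2 ⟨z, hz, rfl⟩), (num z).2, hnum z⟩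
    obtain ⟨k, hk, t, ht⟩ := hK (Submodule.mem_top (x := l y))
    rw [IsLocalizedModule.mk'_eq_iff, Submonoid.smul_def, ← map_smul] at ht
    obtain ⟨⟨_, c, rfl⟩, hc⟩ := (IsLocalizedModule.eq_iff_exists P l).1 ht
    obtain ⟨_, d, rfl⟩ := t
    refine ⟨c + d, ?_⟩
    rw [pow_add, mul_smul]
    have hc' : f i ^ c • k = f i ^ c • f i ^ d • y := hc
    rw [← hc']
    exact K.smul_mem _ hk
  choose t ht using hg
  refine ⟨(Σ i, {y // y ∈ t i}), inferInstance, Fintype.linearCombination A fun j : (Σ i, {y // y ∈ t i}) => j.2.1, fun i y => ?_⟩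
  obtain ⟨k, hk⟩ := ht i y
  refine ⟨k, ?_⟩
  rw [Fintype.range_linearCombination]
  exact Submodule.span_mono (fun z (hz : z ∈ t i) => Set.mem_range.2 ⟨(⟨i, ⟨z, hz⟩⟩ : Σ i, {y // y ∈ t i}), rfl⟩) hk

/-- A finitely presented approximation of a module which is finite projective on a basic cover, together with
factorisations of powers of the cover through a finite free module. -/
theorem exists_fp_approx {κ : Type u} [Finite κ] (f : κ → A)
    (hfin : ∀ i, Module.Finite (Localization (Submonoid.powers (f i))) (LocalizedModule (Submonoid.powers (f i)) M))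
    (hproj : ∀ i, Module.Projective (Localization (Submonoid.powers (f i))) (LocalizedModule (Submonoid.powers (f i)) M)) :
    ∃ (ι : Type u) (_ : Fintype ι) (K : Submodule A (ι → A)) (ψ : ((ι → A) ⧸ K) →ₗ[A] M),
      (∀ i, (∀ y : M, ∃ k : ℕ, f i ^ k • y ∈ LinearMap.range ψ) ∧ (∀ x, ψ x = 0 → ∃ k : ℕ, f i ^ k • x = 0)) ∧
      ∀ i, ∃ (n : ℕ) (σ : ((ι → A) ⧸ K) →ₗ[A] (ι → A)), ∀ x, K.mkQ (σ x) = f i ^ n • x := by
  classical
  haveI := Fintype.ofFinite κ
  obtain ⟨ι, _, φ, hφ⟩ := exists_free_map f hfin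
  choose m S hS hS0 using fun i => exists_section_away φ (f i) (hproj i) (hφ i)
  let T : κ → ((ι → A) →ₗ[A] (ι → A)) := fun i => f i ^ m i • LinearMap.id - S i
  let K : Submodule A (ι → A) := ⨆ i, LinearMap.range (T i)
  have hTK : ∀ i x, f i ^ m i • x - S i x ∈ K := fun i x => le_iSup (fun i => LinearMap.range (T i)) i ⟨x, rfl⟩
  have hKker : K ≤ LinearMap.ker φ := iSup_le fun i => by
    rintro _ ⟨x, rfl⟩
    show φ (f i ^ m i • x - S i x) = 0
    rw [map_sub, map_smul, hS i x, sub_self]
  have hKfg : K.FG := Submodule.fg_iSup _ fun i => by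
    rw [LinearMap.range_eq_map]
    exact Module.Finite.fg_top.map _
  have hKS : ∀ i, ∃ l : ℕ, ∀ x ∈ K, f i ^ l • S i x = 0 := fun i =>
    exists_uniform_pow hKfg _ (S i) fun x hx => hS0 i x (hKker hx)
  refine ⟨ι, inferInstance, K, K.liftQ φ hKker, fun i => ⟨fun y => ?_, fun x hx => ?_⟩, fun i => ?_⟩
  · obtain ⟨k, hk⟩ := hφ i y
    exact ⟨k, by rwa [Submodule.range_liftQ]⟩
  · obtain ⟨v, rfl⟩ := K.mkQ_surjective x
    obtain ⟨l, hl⟩ := hS0 i v hx
    refine ⟨l + m i, (Submodule.Quotient.mk_eq_zero K (x := f i ^ (l + m i) • v)).2 ?_⟩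
    have h1 := K.smul_mem (f i ^ l) (hTK i v)
    rwa [smul_sub, hl, sub_zero, smul_smul, ← pow_add] at h1
  · obtain ⟨l, hl⟩ := hKS i
    refine ⟨l + m i, K.liftQ (f i ^ l • S i) (fun x hx => hl x hx), fun x => ?_⟩
    obtain ⟨v, rfl⟩ := K.mkQ_surjective x
    show Submodule.Quotient.mk (f i ^ l • S i v) = Submodule.Quotient.mk (f i ^ (l + m i) • v)
    rw [eq_comm, Submodule.Quotient.eq, pow_add, mul_smul, ← smul_sub]
    exact K.smul_mem _ (hTK i v)

end Groth.Agent.LocCohDepth
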