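import Groth.Prelude.Def_Wider
import Groth.Agent.LocCohDepth.FPApprox
import Groth.Agent.PnCoh.Finite.HHLin
import Groth.Agent.FFun.Basic
import Groth.Agent.FPEnough.Extend
import Groth.Agent.MorLib.TildeProj
import Groth.Agent.QCoh.Pullback
import Groth.Agent.QCoh.LocFree
import Groth.Agent.H23.PullPush
import Groth.Agent.KFlatLib.Perfect.LocFree
import Groth.Agent.PicClLib.Basic
import Groth.Agent.S2298
import Groth.Agent.S2265

/-!
# Annihilation of the cohomology of finite locally free modules on a punctured spectrum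
-/

set_option autoImplicit false
set_option backward.isDefEq.respectTransparency false
set_option backward.isDefEq.respectTransparency.types false

universe u

open CategoryTheory CategoryTheory.Limits AlgebraicGeometry Opposite TopologicalSpace
open scoped TensorProduct

namespace Groth.Agent.LocCohDepth.Punct

set_option maxHeartbeats 400000

variable {R : CommRingCat.{u}} {U : (Spec R).Opens}

/-- `N ↦ N~|_U`. -/
noncomputable abbrev G (U : (Spec R).Opens) : ModuleCat.{u} R ⥤ (U : Scheme.{u}).Modules :=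
  tilde.functor R ⋙ Scheme.Modules.restrictFunctor U.ι

/-- `Spec R` over itself. -/
noncomputable abbrev overSelf (R : CommRingCat.{u}) : (Spec R).Over (Spec (CommRingCat.of R)) := ⟨𝟙 _⟩

theorem tilde_smul (M : ModuleCat.{u} R) (f : R) :
    letI := overSelf R
    tilde.map (f • 𝟙 M) = Formal.smulMod R (tilde M) f := by
  letI := overSelf R
  refine ((tilde.adjunction (R := R)).homEquiv M (tilde M)).injective ?_
  rw [Adjunction.homEquiv_unit, Adjunction.homEquiv_unit]
  refine ModuleCat.hom_ext (LinearMap.ext fun m => ?_)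
  have h := congr(($((tilde.adjunction (R := R)).unit.naturality (f • 𝟙 M))).hom m)
  refine h.symm.trans ?_
  refine ((((tilde.adjunction (R := R)).unit.app M).hom).map_smul f m).trans ?_
  refine Eq.trans ?_ (FFun.smulMod_app (A := R) (tilde M) f ⊤ _).symm
  rw [Scheme.Modules.smul_Spec_def]
  congr 2

theorem resTop_toGlobal (V : (U : Scheme.{u}).Opens) (a : R) :
    Coh.resTop (U : Scheme.{u}) (op V) (Coh.toGlobal ((U : Scheme.{u}) ↘ Spec (CommRingCat.of R)) a) =
      (U.ι.appIso V).hom ((Spec R).presheaf.map (homOfLE (le_top : U.ι ''ᵁ V ≤ ⊤)).op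
        ((Scheme.ΓSpecIso R).inv a)) := by
  show (U : Scheme.{u}).presheaf.map _ (U.ι.appTop ((Scheme.ΓSpecIso R).inv a)) = _
  rw [Scheme.Opens.ι_appTop, Scheme.Opens.ι_appIso, Iso.refl_hom]
  change (Spec R).presheaf.map _ ((Spec R).presheaf.map _ ((Scheme.ΓSpecIso R).inv a)) = (Spec R).presheaf.map _ ((Scheme.ΓSpecIso R).inv a)
  rw [← CommRingCat.comp_apply, ← Functor.map_comp]
  rfl

theorem toAb_map_smul (N : ModuleCat.{u} R) (a : R) :
    (QCoh.toAbFunctor (U : Scheme.{u})).map ((G U).map (a • 𝟙 N)) =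
      Coh.smulAb ((G U).obj N) (Coh.toGlobal ((U : Scheme.{u}) ↘ Spec (CommRingCat.of R)) a) := by
  letI := overSelf R
  show (QCoh.toAbFunctor (U : Scheme.{u})).map ((Scheme.Modules.restrictFunctor U.ι).map (tilde.map (a • 𝟙 N))) = _
  rw [tilde_smul N a]
  ext V m
  refine Eq.trans ?_ (Coh.smulAb_app ((G U).obj N) _ V m).symm
  rw [resTop_toGlobal V.unop a]
  refine Eq.trans ?_ (show (show Γ(Spec R, U.ι ''ᵁ V.unop) from (U.ι.appIso V.unop).inv ((U.ι.appIso V.unop).hom
    ((Spec R).presheaf.map (homOfLE (le_top : U.ι ''ᵁ V.unop ≤ ⊤)).op ((Scheme.ΓSpecIso R).inv a)))) •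
      (show Γ(tilde N, U.ι ''ᵁ V.unop) from m) = _ from rfl)
  rw [Iso.hom_inv_id_apply]
  refine (FFun.smulMod_app (A := R) (tilde N) a (U.ι ''ᵁ V.unop) m).trans ?_
  have hs : Coh.toGlobal (Spec R ↘ Spec (CommRingCat.of R)) a = (Scheme.ΓSpecIso R).inv a := by
    show (𝟙 (Spec R) : Spec R ⟶ Spec R).appTop ((Scheme.ΓSpecIso R).inv a) = _
    rw [Scheme.Hom.id_appTop]
    rfl
  rw [hs]
  rfl

theorem mapLin_smul (N : ModuleCat.{u} R) (a : R) (p : ℕ) (x : Coh.HH (U : Scheme.{u}) ((G U).obj N) p) :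
    PnCoh.Finite.mapLin R ((G U).map (a • 𝟙 N)) p x = a • x :=
  congrArg (fun φ => Sheaf.H.map φ p x) (toAb_map_smul N a)

theorem mapLin_comp {L M N : (U : Scheme.{u}).Modules} (φ : L ⟶ M) (ψ : M ⟶ N) (p : ℕ)
    (x : Coh.HH (U : Scheme.{u}) L p) :
    PnCoh.Finite.mapLin R (φ ≫ ψ) p x = PnCoh.Finite.mapLin R ψ p (PnCoh.Finite.mapLin R φ p x) := by
  show Sheaf.H.map ((QCoh.toAbFunctor _).map (φ ≫ ψ)) p x = _
  rw [Functor.map_comp, Sheaf.H.map_comp_apply]
  rfl

theorem mapLin_add {M N : (U : Scheme.{u}).Modules} (φ ψ : M ⟶ N) (p : ℕ) (x : Coh.HH (U : Scheme.{u}) M p) :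
    PnCoh.Finite.mapLin R (φ + ψ) p x = PnCoh.Finite.mapLin R φ p x + PnCoh.Finite.mapLin R ψ p x := by
  show Sheaf.H.map ((QCoh.toAbFunctor _).map (φ + ψ)) p x = _
  rw [Functor.map_add, Sheaf.H.map_add_apply]
  rfl

theorem mapLin_id (M : (U : Scheme.{u}).Modules) (p : ℕ) (x : Coh.HH (U : Scheme.{u}) M p) :
    PnCoh.Finite.mapLin R (𝟙 M) p x = x := by
  show Sheaf.H.map ((QCoh.toAbFunctor _).map (𝟙 M)) p x = x
  rw [CategoryTheory.Functor.map_id, Sheaf.H.map_id_apply]

theorem kill_of_iso {M N : (U : Scheme.{u}).Modules} (e : M ≅ N) {b : R} (p : ℕ)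
    (hb : ∀ x : Coh.HH (U : Scheme.{u}) N p, b • x = 0) (z : Coh.HH (U : Scheme.{u}) M p) : b • z = 0 := by
  rw [← mapLin_id (R := R) M p z, ← e.hom_inv_id, mapLin_comp, ← map_smul, hb, map_zero]

/-- A scalar killing `H^p(U, O)` kills `H^p(U, O^ι)`. -/
theorem kill_free {b : R} (p : ℕ) (hb : ∀ x : Coh.HH (U : Scheme.{u}) (Coh.structureModule (U : Scheme.{u})) p, b • x = 0)
    (ι : Type u) [Fintype ι] (y : Coh.HH (U : Scheme.{u}) ((G U).obj (ModuleCat.of R (ι → R))) p) : b • y = 0 := by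
  classical
  obtain ⟨e0⟩ := PicClLib.nonempty_pullback_structureModule U.ι
  let e : (G U).obj (ModuleCat.of R R) ≅ Coh.structureModule (U : Scheme.{u}) :=
    (Scheme.Modules.restrictFunctorIsoPullback U.ι).app _ ≪≫ e0
  have h1 : ∀ z : Coh.HH (U : Scheme.{u}) ((G U).obj (ModuleCat.of R R)) p, b • z = 0 := kill_of_iso e p hb
  let pr := fun j : ι => ModuleCat.ofHom (LinearMap.proj (R := R) (φ := fun _ : ι => R) j)
  let inc := fun j : ι => ModuleCat.ofHom (LinearMap.single R (fun _ : ι => R) j)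
  have hsum : (1 : R) • 𝟙 (ModuleCat.of R (ι → R)) = ∑ j, pr j ≫ inc j := by
    rw [one_smul]
    refine ModuleCat.hom_ext (LinearMap.ext fun v => ?_)
    rw [ModuleCat.hom_id, LinearMap.id_apply, ModuleCat.hom_sum, LinearMap.sum_apply]
    exact (LinearMap.sum_single_apply (φ := fun _ : ι => R) v).symm
  let L : (ModuleCat.of R (ι → R) ⟶ ModuleCat.of R (ι → R)) →+ Coh.HH (U : Scheme.{u}) ((G U).obj (ModuleCat.of R (ι → R))) p :=
    AddMonoidHom.mk' (fun φ => PnCoh.Finite.mapLin R ((G U).map φ) p (b • y)) fun φ ψ => by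
      rw [Functor.map_add, mapLin_add]
  calc b • y = L ((1 : R) • 𝟙 _) := by
        show _ = PnCoh.Finite.mapLin R ((G U).map _) p (b • y)
        rw [mapLin_smul, one_smul]
    _ = ∑ j, L (pr j ≫ inc j) := by rw [hsum, map_sum]
    _ = 0 := Finset.sum_eq_zero fun j _ => by
        show PnCoh.Finite.mapLin R ((G U).map (pr j ≫ inc j)) p (b • y) = 0
        rw [Functor.map_comp, mapLin_comp, map_smul (PnCoh.Finite.mapLin R ((G U).map (pr j)) p), h1, map_zero]

/-- Finite locally free on `U` gives finite projective on every basic open inside `U`. -/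
theorem finite_projective_away (N : ModuleCat.{u} R) (hN : FlatMod.IsFinLocFree ((G U).obj N)) (g : R)
    (hg : PrimeSpectrum.basicOpen g ≤ U) :
    Module.Finite (Localization (Submonoid.powers g)) (LocalizedModule (Submonoid.powers g) N) ∧
      Module.Projective (Localization (Submonoid.powers g)) (LocalizedModule (Submonoid.powers g) N) := by
  let α : CommRingCat.of R ⟶ CommRingCat.of (Localization.Away g) := CommRingCat.ofHom (algebraMap R (Localization.Away g))
  haveI : IsOpenImmersion (Spec.map α) := IsOpenImmersion.of_isLocalization g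
  have hr : Set.range (Spec.map α) ⊆ Set.range U.ι := by
    rw [Scheme.Opens.range_ι]
    exact (PrimeSpectrum.localization_away_comap_range (Localization.Away g) g).trans_le hg
  let l := IsOpenImmersion.lift U.ι (Spec.map α) hr
  have hl : l ≫ U.ι = Spec.map α := IsOpenImmersion.lift_fac _ _ hr
  have h1 : FlatMod.IsFinLocFree ((Scheme.Modules.pullback (Spec.map α)).obj (tilde N)) :=
    H23.PullPush.isFinLocFree_of_iso
      ((Scheme.Modules.pullback l).mapIso ((Scheme.Modules.restrictFunctorIsoPullback U.ι).app (tilde N)) ≪≫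
        (Scheme.Modules.pullbackComp l U.ι).app (tilde N) ≪≫ (Scheme.Modules.pullbackCongr hl).app (tilde N))
      (KFlatLib.isFinLocFree_pullback l hN)
  obtain ⟨e2⟩ := Groth.Agent.S2265.result R (Localization.Away g) N
  have h3 : Module.Finite (Localization.Away g) (Localization.Away g ⊗[R] N) ∧
      Module.Projective (Localization.Away g) (Localization.Away g ⊗[R] N) :=
    (QCoh.isFinLocFree_tilde_iff _).1 (H23.PullPush.isFinLocFree_of_iso e2 h1)
  haveI := h3.1
  haveI := h3.2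
  let e := (LocalizedModule.equivTensorProduct (Submonoid.powers g) N).symm
  exact ⟨Module.Finite.equiv e, Module.Projective.of_equiv e⟩

/-- A map bijective up to powers on a basic cover induces an isomorphism on `U`. -/
theorem isIso_map {κ : Type u} (f : κ → R) (hle : ∀ i, PrimeSpectrum.basicOpen (f i) ≤ U)
    (hcov : U ≤ ⨆ i, PrimeSpectrum.basicOpen (f i)) {N M : ModuleCat.{u} R} (ψ : N ⟶ M)
    (h : ∀ i, (∀ y : M, ∃ k : ℕ, f i ^ k • y ∈ LinearMap.range ψ.hom) ∧ ∀ x, ψ x = 0 → ∃ k : ℕ, f i ^ k • x = 0) :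
    IsIso ((G U).map ψ) := by
  let D : κ → (Spec R).affineOpens := fun i =>
    ⟨PrimeSpectrum.basicOpen (f i), by rw [← basicOpen_eq_of_affine]; exact (isAffineOpen_top _).basicOpen _⟩
  have hb : ∀ i, Function.Bijective ((tilde.map ψ).app (D i).1) := fun i => by
    let P := Submonoid.powers (f i)
    let l₁ := (tilde.toOpen (R := CommRingCat.of R) N (D i).1).hom
    let l₂ := (tilde.toOpen (R := CommRingCat.of R) M (D i).1).hom
    haveI : IsLocalizedModule P l₁ := MorLib.TP.isLocalized N (f i)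
    haveI : IsLocalizedModule P l₂ := MorLib.TP.isLocalized M (f i)
    let g := ((modulesSpecToSheaf.map (tilde.map ψ)).1.app (op (D i).1)).hom
    have hc : ∀ m, g (l₁ m) = l₂ (ψ m) := fun m => MorLib.TP.sec_map ψ (D i).1 m
    show Function.Bijective g
    refine ⟨(injective_iff_map_eq_zero g).2 fun z hz => ?_, fun z => ?_⟩
    · obtain ⟨⟨x, s⟩, rfl⟩ := IsLocalizedModule.mk'_surjective P l₁ z
      rw [Function.uncurry_apply_pair] at hz ⊢
      have h0 : l₂ (ψ x) = 0 := by
        rw [← hc, ← IsLocalizedModule.mk'_cancel' l₁ x s, Submonoid.smul_def, map_smul, hz, smul_zero]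
      obtain ⟨⟨_, n, rfl⟩, hn⟩ := (IsLocalizedModule.eq_zero_iff P l₂).1 h0
      obtain ⟨k, hk⟩ := (h i).2 (f i ^ n • x) ((map_smul ψ.hom _ _).trans hn)
      rw [IsLocalizedModule.mk'_eq_zero']
      exact ⟨⟨f i ^ (k + n), k + n, rfl⟩, by show f i ^ (k + n) • x = 0; rw [pow_add, mul_smul]; exact hk⟩
    · obtain ⟨⟨y, s⟩, rfl⟩ := IsLocalizedModule.mk'_surjective P l₂ z
      obtain ⟨k, x, hx⟩ := (h i).1 y
      refine ⟨IsLocalizedModule.mk' l₁ x ((⟨f i ^ k, k, rfl⟩ : P) * s), ?_⟩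
      apply IsLocalizedModule.smul_injective l₂ ((⟨f i ^ k, k, rfl⟩ : P) * s)
      simp only [Function.uncurry_apply_pair]
      rw [Submonoid.smul_def, ← map_smul, ← Submonoid.smul_def, IsLocalizedModule.mk'_cancel', hc, hx, mul_smul,
        IsLocalizedModule.mk'_cancel']
      exact map_smul l₂ (f i ^ k) y
  refine (Scheme.Modules.Hom.isIso_iff_isIso_app).2 fun V => ?_
  rw [ConcreteCategory.isIso_iff_bijective]
  exact FPEnough.bijective_app_of_cover (M := tilde N) (N := tilde M) inferInstance inferInstance (tilde.map ψ) D hle hcov hb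
    (Scheme.Opens.ι_image_le U V)

theorem exists_pow_kill_aux {κ : Type u} [Finite κ] (f : κ → R) (hle : ∀ i, PrimeSpectrum.basicOpen (f i) ≤ U)
    (hcov : U ≤ ⨆ i, PrimeSpectrum.basicOpen (f i)) (J : Ideal R) (hI : (Ideal.span (Set.range f)).FG)
    (hJI : J ≤ Ideal.span (Set.range f)) (p n : ℕ)
    (hO : ∀ a ∈ J ^ n, ∀ x : Coh.HH (U : Scheme.{u}) (Coh.structureModule (U : Scheme.{u})) p, a • x = 0)
    {F : (U : Scheme.{u}).Modules} (hF : FlatMod.IsFinLocFree F) (M : ModuleCat.{u} R) (e : F ≅ (G U).obj M) :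
    ∃ m : ℕ, ∀ a ∈ J ^ m, ∀ x : Coh.HH (U : Scheme.{u}) F p, a • x = 0 := by
  have hM : FlatMod.IsFinLocFree ((G U).obj M) := H23.PullPush.isFinLocFree_of_iso e hF
  have hfp := fun i => finite_projective_away M hM (f i) (hle i)
  obtain ⟨ι, _, K, ψ, hψ, hσ⟩ := exists_fp_approx (M := M) f (fun i => (hfp i).1) (fun i => (hfp i).2)
  haveI := isIso_map f hle hcov (N := ModuleCat.of R ((ι → R) ⧸ K)) (M := M) (ModuleCat.ofHom ψ) hψ
  let E := asIso ((G U).map (ModuleCat.ofHom ψ)) ≪≫ e.symm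
  choose d σ hd using hσ
  let ann : Ideal R := Ideal.span (Set.range fun i => f i ^ d i)
  have hrad : Ideal.span (Set.range f) ≤ ann.radical :=
    Ideal.span_le.2 fun x ⟨i, hi⟩ => ⟨d i, Ideal.subset_span ⟨i, hi ▸ rfl⟩⟩
  obtain ⟨N, hN⟩ := Ideal.exists_pow_le_of_le_radical_of_fg hrad hI
  have key : ∀ c ∈ ann, ∀ b ∈ J ^ n, ∀ y : Coh.HH (U : Scheme.{u}) ((G U).obj (ModuleCat.of R ((ι → R) ⧸ K))) p,
      b • c • y = 0 := by
    intro c hc b hb y
    induction hc using Submodule.span_induction with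
    | mem z hz =>
      obtain ⟨i, rfl⟩ := hz
      have hfac : (f i ^ d i) • 𝟙 (ModuleCat.of R ((ι → R) ⧸ K)) =
          ModuleCat.ofHom (σ i) ≫ ModuleCat.ofHom K.mkQ := ModuleCat.hom_ext (LinearMap.ext fun z => (hd i z).symm)
      rw [← mapLin_smul (ModuleCat.of R ((ι → R) ⧸ K)) (f i ^ d i) p y, hfac, Functor.map_comp, mapLin_comp,
        ← map_smul, kill_free p (hO b hb) ι, map_zero]
    | zero => rw [zero_smul, smul_zero]
    | add z w _ _ hz hw => rw [add_smul, smul_add, hz, hw, add_zero]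
    | smul r z _ hz => rw [smul_eq_mul, mul_smul, smul_comm b r, hz, smul_zero]
  refine ⟨n + N, fun a ha x => ?_⟩
  rw [pow_add] at ha
  obtain ⟨y, rfl⟩ : ∃ y, PnCoh.Finite.mapLin R E.hom p y = x := ⟨PnCoh.Finite.mapLin R E.inv p x, by
    rw [← mapLin_comp, E.inv_hom_id, mapLin_id]⟩
  rw [← map_smul]
  suffices a • y = 0 by rw [this, map_zero]
  exact Submodule.mul_induction_on (C := fun z => z • y = 0) ha
    (fun b hb c hc => (mul_smul b c y).trans (key c (hN (Ideal.pow_right_mono hJI N hc)) b hb y))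
    (fun z w hz hw => (add_smul z w y).trans (by rw [hz, hw, add_zero]))


variable {A : Type u} [CommRing A]

theorem exists_pow_kill (I J : Ideal A) (hJI : J ≤ I) (hI : I.FG) (p n : ℕ)
    (hO : ∀ a ∈ J ^ n, ∀ x : Coh.HH (↑(LocCoh.puncturedOpen A I)) (Coh.structureModule (↑(LocCoh.puncturedOpen A I))) p,
      a • x = 0)
    (F : (↑(LocCoh.puncturedOpen A I) : Scheme.{u}).Modules) (hF : FlatMod.IsFinLocFree F) :
    ∃ m : ℕ, ∀ a ∈ J ^ m, ∀ x : Coh.HH (↑(LocCoh.puncturedOpen A I)) F p, a • x = 0 := by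
  obtain ⟨t, ht⟩ := id hI
  let U := LocCoh.puncturedOpen A I
  let f : {x : A // x ∈ t} → A := Subtype.val
  have hle : ∀ i, PrimeSpectrum.basicOpen (f i) ≤ U := fun i q hq hq' =>
    hq (hq' (ht ▸ Ideal.subset_span i.2))
  have hcov : U ≤ ⨆ i, PrimeSpectrum.basicOpen (f i) := fun q hq => by
    by_contra h
    refine hq ?_
    show (I : Set A) ⊆ q.asIdeal
    rw [← ht]
    refine Ideal.span_le.2 fun x hx => ?_
    by_contra hx'
    exact h (Opens.mem_iSup.2 ⟨⟨x, hx⟩, hx'⟩)
  have hUc : IsCompact (U : Set (Spec (CommRingCat.of A))) := by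
    rw [show U = ⨆ i, PrimeSpectrum.basicOpen (f i) from le_antisymm hcov (iSup_le hle), Opens.coe_iSup]
    exact isCompact_iUnion fun i => PrimeSpectrum.isCompact_basicOpen _
  have hI' : I = Ideal.span (Set.range f) := by rw [← ht]; congr 1; exact Subtype.range_coe.symm
  obtain ⟨M, _, _, ⟨e⟩⟩ := (Groth.Agent.S2298.result A U hUc F).1 (QCoh.isQCoh_of_isFinLocFree hF)
  exact exists_pow_kill_aux (R := CommRingCat.of A) (U := U) f hle hcov J (hI' ▸ hI) (hI' ▸ hJI) p n hO hF
    (ModuleCat.of A M) e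

end Groth.Agent.LocCohDepth.Punct
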