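import Groth.Prelude.Def_LCI2
import Groth.Agent.H9Misc.KonLib
import Groth.Agent.S9264
import Groth.Agent.S9265
import Mathlib

/-!
# The extended Cech complex of a flat module for the image of a Koszul-regular sequence
-/

set_option autoImplicit false

universe u

open CategoryTheory CategoryTheory.Limits MonoidalCategory
open scoped TensorProduct

namespace Groth.Agent.LocCohDepth

open H9Misc.KonLib

variable {R S : Type u} [CommRing R] [CommRing S] (φ : R →+* S) (G : ModuleCat.{u} R ⥤ ModuleCat.{u} S)
  [G.Additive] (hG : ∀ (r : R) (X : ModuleCat.{u} R), G.map (r • 𝟙 X) = φ r • 𝟙 (G.obj X))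

include hG in
theorem map_cx_smul (r : R) (K : DRing.Cx R) :
    (G.mapHomologicalComplex _).map (r • 𝟙 K) = φ r • 𝟙 ((G.mapHomologicalComplex _).obj K) := by
  refine HomologicalComplex.hom_ext _ _ fun n => ?_
  simp only [Functor.mapHomologicalComplex_map_f, HomologicalComplex.smul_f_apply, HomologicalComplex.id_f, hG]
  rfl

include hG in
/-- A scalar compatible functor commutes with the iterated cones. -/
theorem nonempty_kon_map (K : DRing.Cx R) : ∀ fs : List R,
    Nonempty ((G.mapHomologicalComplex _).obj ((kon fs).obj K) ≅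
      (kon (fs.map φ)).obj ((G.mapHomologicalComplex _).obj K))
  | [] => ⟨Iso.refl _⟩
  | f :: r => by
    obtain ⟨e⟩ := nonempty_kon_map K r
    refine ⟨CochainComplex.mappingCone.mapHomologicalComplexIso (f • 𝟙 ((kon r).obj K)) G ≪≫
      eqToIso (by rw [map_cx_smul φ G hG]; rfl) ≪≫ (F (φ f)).mapIso e⟩

theorem extCech_isZero_of_kon {S : Type u} [CommRing S] (gs : List S) (N : ModuleCat.{u} S)
    (hK : ∀ m : ℤ, m ≠ 0 →
      IsZero (((kon gs).obj ((HomologicalComplex.single (ModuleCat.{u} S) (ComplexShape.up ℤ) 0).obj N)).homology m))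
    (q : ℤ) (hq : q ≠ (gs.length : ℤ)) : IsZero (DerCA.extCechH gs N q) := by
  by_contra hne
  have hrange : 0 ≤ q ∧ q < (gs.length : ℤ) := by
    refine ⟨?_, ?_⟩ <;> by_contra hc <;>
      exact hne (Groth.Agent.S9264.result S gs N q (by omega))
  classical
  have hex : ∃ m : ℕ, ¬ IsZero (DerCA.extCechH gs N (m : ℤ)) :=
    ⟨q.toNat, by rwa [Int.toNat_of_nonneg hrange.1]⟩
  let j : ℕ := Nat.find hex
  have hj : (j : ℤ) ≤ q := by
    have := Nat.find_le (h := hex) (n := q.toNat) (by rwa [Int.toNat_of_nonneg hrange.1])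
    change j ≤ q.toNat at this
    omega
  have hlow : ∀ q' < (j : ℤ), IsZero (DerCA.extCechH gs N q') := fun q' hq' => by
    rcases lt_or_ge q' 0 with h | h
    · exact Groth.Agent.S9264.result S gs N q' (Or.inl h)
    · by_contra hz
      have := Nat.find_le (h := hex) (n := q'.toNat) (by rwa [Int.toNat_of_nonneg h])
      change j ≤ q'.toNat at this
      omega
  obtain ⟨-, h2, -⟩ := lowest (DerCA.extCech N gs) (j : ℤ) hlow (Nat.find_spec hex) gs (fun f hf x => by
    obtain ⟨n, -, hn⟩ := Groth.Agent.S9265.result S gs N (j : ℤ) x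
    exact ⟨n, hn f hf⟩)
  obtain ⟨e1⟩ := nonempty_homology_iso gs N gs (fun g hg => hg) ((j : ℤ) - gs.length)
  exact h2 ((hK _ (by omega)).of_iso e1)

include hG in
theorem extCech_isZero_of_functor [PreservesFiniteLimits G] [PreservesFiniteColimits G] {N : ModuleCat.{u} S}
    (eN : G.obj (ModuleCat.of R R) ≅ N) {fs : List R} (hfs : LCI.IsKoszulRegularSeq R fs) (q : ℤ)
    (hq : q ≠ (fs.length : ℤ)) : IsZero (DerCA.extCechH (fs.map φ) N q) := by
  refine extCech_isZero_of_kon _ N (fun m hm => ?_) q (by rwa [List.length_map])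
  let single := fun (A : Type u) [CommRing A] => HomologicalComplex.single (ModuleCat.{u} A) (ComplexShape.up ℤ) 0
  obtain ⟨e⟩ := nonempty_kon_map φ G hG ((single R).obj (ModuleCat.of R R)) fs
  obtain ⟨k⟩ := nonempty_koszul fs
  haveI : G.PreservesHomology := inferInstance
  let e' := ((G.mapHomologicalComplex _).mapIso k).symm ≪≫ e ≪≫ (kon (fs.map φ)).mapIso
    ((HomologicalComplex.singleMapHomologicalComplex G (ComplexShape.up ℤ) 0).app (ModuleCat.of R R) ≪≫
      (single S).mapIso eN)
  refine (G.map_isZero (hfs m hm)).of_iso ?_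
  exact ((HomologicalComplex.homologyFunctor (ModuleCat.{u} S) (ComplexShape.up ℤ) m).mapIso e').symm ≪≫
    ((Koszul.koszul R fs).sc m).mapHomologyIso G

omit G hG in
/-- For a Koszul-regular sequence in `R`, a flat map `R → S` and a flat `S`-module, the extended Cech complex
of the module for the image sequence has cohomology only in the top degree. -/
theorem extCech_isZero_of_flat (hφ : φ.Flat) (N : Type u) [AddCommGroup N] [Module S N] [Module.Flat S N]
    {fs : List R} (hfs : LCI.IsKoszulRegularSeq R fs) (q : ℤ) (hq : q ≠ (fs.length : ℤ)) :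
    IsZero (DerCA.extCechH (fs.map φ) (ModuleCat.of S N) q) := by
  letI := φ.toAlgebra
  haveI := ModuleCat.preservesFiniteLimits_extendScalars_of_flat hφ
  let Nm := ModuleCat.of S N
  let G' : ModuleCat.{u} R ⥤ ModuleCat.{u} S := ModuleCat.extendScalars.{u, u, u} φ ⋙ tensorLeft Nm
  haveI : PreservesFiniteLimits G' := comp_preservesFiniteLimits _ _
  haveI : PreservesFiniteColimits (ModuleCat.extendScalars.{u, u, u} φ) := inferInstance
  haveI : PreservesFiniteColimits G' := comp_preservesFiniteColimits _ _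
  haveI : G'.Additive := Functor.additive_of_preserves_binary_products _
  refine extCech_isZero_of_functor φ G' (fun r X => ?_) ?_ hfs q hq
  · have h1 : (ModuleCat.extendScalars.{u, u, u} φ).map (r • 𝟙 X) =
        φ r • 𝟙 ((ModuleCat.extendScalars.{u, u, u} φ).obj X) := by
      refine ModuleCat.ExtendScalars.hom_ext fun x => ?_
      show ((1 : S) ⊗ₜ[R] (r • x)) = φ r • ((1 : S) ⊗ₜ[R] x)
      rw [TensorProduct.tmul_smul]
      exact (IsScalarTower.algebraMap_smul S r _).symm
    show (tensorLeft Nm).map _ = _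
    rw [h1]
    exact ((tensorLeft Nm).map_smul (φ r) _).trans (congrArg _ ((tensorLeft Nm).map_id _))
  · exact (tensorLeft Nm).mapIso
      (TensorProduct.AlgebraTensorModule.rid R S S).toModuleIso ≪≫ ρ_ Nm

end Groth.Agent.LocCohDepth
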