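import Groth.Agent.LocCohDepth.Main
import Groth.Agent.LocCohDepth.Compare
import Groth.Agent.GrLib8.HZResIff
import Groth.Agent.SiteBase.Cohom
import Groth.Agent.QCoh.Bound

/-!
# Depth at least two along a closed subset and extension of sections
-/

set_option autoImplicit false

universe u

open CategoryTheory CategoryTheory.Limits AlgebraicGeometry Opposite TopologicalSpace

namespace Groth.Agent.LocCohDepth

section Top

variable {X : TopCat.{u}} (F : CohTop.Ab X) {W V : Opens X} (h : W ≤ V)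

theorem huZero_res (x : CohTop.HU F 0 V) :
    SiteBase.huZero F W (CohTop.res F 0 h x) = (F.obj.map (homOfLE h).op).hom (SiteBase.huZero F V x) := by
  obtain ⟨φ, rfl⟩ : ∃ φ, Abelian.Ext.mk₀ φ = x :=
    ⟨Abelian.Ext.addEquiv₀ x, Abelian.Ext.addEquiv₀.symm_apply_apply x⟩
  show SiteBase.huZero F W ((Abelian.Ext.mk₀ _).comp (Abelian.Ext.mk₀ φ) (zero_add 0)) = _
  rw [Abelian.Ext.mk₀_comp_mk₀, SiteBase.huZero_mk₀, SiteBase.huZero_mk₀]
  exact SiteBase.secEquiv_freeSheafMap (J := Opens.grothendieckTopology X) (homOfLE h) φ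

theorem bijective_res_iff :
    Function.Bijective (CohTop.res F 0 h) ↔ Function.Bijective (F.obj.map (homOfLE h).op).hom := by
  have e : ⇑(F.obj.map (homOfLE h).op).hom ∘ ⇑(SiteBase.huZero F V) =
      ⇑(SiteBase.huZero F W) ∘ ⇑(CohTop.res F 0 h) := funext fun x => (huZero_res F h x).symm
  rw [← Function.Bijective.of_comp_iff' (SiteBase.huZero F W).bijective, ← e,
    Function.Bijective.of_comp_iff _ (SiteBase.huZero F V).bijective]

theorem bijective_res_of_subsingleton [Subsingleton (LocCohZ.HZ F 0 h)] [Subsingleton (LocCohZ.HZ F 1 h)] :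
    Function.Bijective (F.obj.map (homOfLE h).op).hom :=
  (bijective_res_iff F h).1 ⟨GrLib8.LocZ.res_injective F h 0, GrLib8.LocZ.res_surjective F h 0⟩

theorem subsingleton_of_bijective_res (hb : Function.Bijective (F.obj.map (homOfLE h).op).hom)
    [Subsingleton (CohTop.HU F 1 V)] :
    Subsingleton (LocCohZ.HZ F 0 h) ∧ Subsingleton (LocCohZ.HZ F 1 h) := by
  have hb' := (bijective_res_iff F h).2 hb
  refine ⟨subsingleton_of_forall_eq 0 fun x => ?_, subsingleton_of_forall_eq 0 fun x => ?_⟩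
  · exact GrLib8.LocZ.toHU_injective_zero F h ((hb'.1 ((GrLib8.LocZ.res_toHU F h 0 x).trans
      (map_zero _).symm)).trans (map_zero _).symm)
  · obtain ⟨y, rfl⟩ := GrLib8.LocZ.exists_delta_of_toHU_eq_zero F h 0 x (Subsingleton.elim _ _)
    obtain ⟨z, rfl⟩ := hb'.2 y
    exact GrLib8.LocZ.delta_res F h 0 z

end Top

variable {X : Scheme.{u}} [IsLocallyNoetherian X] (U : X.Opens) {E : X.Modules}

/-- Depth at least two outside `U`: sections extend uniquely from `V ∩ U`. -/
theorem bijective_res_of_depth (hE : Coh.IsCoh E)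
    (hd : ∀ x : X, x ∉ U → (2 : ℕ∞) ≤ LocCoh.depth (X.presheaf.stalk x) (E.presheaf.stalk x)) (V : X.Opens) :
    Function.Bijective (E.presheaf.map (homOfLE (inf_le_left : V ⊓ U ≤ V)).op).hom := by
  have h := (GrLib8.HZshPre.isZero_iff_subsingleton (X := X.carrier) U (Coh.toAb E) 2).1
    ((HZsh_isZero_iff_depth U hE 2).2 hd) V
  haveI := h 0 (by omega)
  haveI := h 1 (by omega)
  exact bijective_res_of_subsingleton (X := X.carrier) (Coh.toAb E) (inf_le_left : V ⊓ U ≤ V)

/-- Conversely, on affine opens. -/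
theorem depth_of_bijective_res (hE : Coh.IsCoh E)
    (hb : ∀ V : X.Opens, IsAffineOpen V →
      Function.Bijective (E.presheaf.map (homOfLE (inf_le_left : V ⊓ U ≤ V)).op).hom)
    (x : X) (hx : x ∉ U) : (2 : ℕ∞) ≤ LocCoh.depth (X.presheaf.stalk x) (E.presheaf.stalk x) := by
  obtain ⟨W, hW, hxW, -⟩ := exists_isAffineOpen_mem_and_subset (x := x) (U := ⊤) trivial
  refine (vanishing_affine_iff U hE hW 2).1 (fun i hi => ?_) x hxW hx
  haveI : Subsingleton (CohTop.HU (X := X.carrier) (Coh.toAb E) 1 W) :=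
    QCoh.subsingleton_HU_of_isAffineOpen hE.1 hW 0
  have h := subsingleton_of_bijective_res (X := X.carrier) (Coh.toAb E) (inf_le_left : W ⊓ U ≤ W) (hb W hW)
  obtain rfl | rfl : i = 0 ∨ i = 1 := by omega
  · exact h.1
  · exact h.2

omit [IsLocallyNoetherian X] in
theorem unitJ_app_bijective_iff (V : X.Opens) :
    Function.Bijective (((unitJ U.ι).app E).app V).hom ↔
      Function.Bijective (E.presheaf.map (homOfLE (inf_le_left : V ⊓ U ≤ V)).op).hom := by
  rw [Scheme.Modules.restrictAdjunction_unit_app_app]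
  have hV : U.ι ''ᵁ (U.ι ⁻¹ᵁ V) = V ⊓ U := by
    rw [Scheme.Hom.image_preimage_eq_opensRange_inf, Scheme.Opens.opensRange_ι, inf_comm]
  have key : ∀ (W : X.Opens) (h : W ≤ V), W = V ⊓ U → (Function.Bijective (E.presheaf.map (homOfLE h).op).hom ↔
      Function.Bijective (E.presheaf.map (homOfLE (inf_le_left : V ⊓ U ≤ V)).op).hom) := by
    intro W h e
    subst e
    rfl
  exact key _ _ hV

omit [IsLocallyNoetherian X] in
theorem isIso_unit_iff :
    IsIso ((unitJ U.ι).app E) ↔ ∀ V : X.Opens,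
      Function.Bijective (E.presheaf.map (homOfLE (inf_le_left : V ⊓ U ≤ V)).op).hom := by
  rw [Scheme.Modules.Hom.isIso_iff_isIso_app]
  refine forall_congr' fun V => ?_
  rw [← unitJ_app_bijective_iff, ConcreteCategory.isIso_iff_bijective]

theorem isIso_unit_of_depth (hE : Coh.IsCoh E)
    (hd : ∀ x : X, x ∉ U → (2 : ℕ∞) ≤ LocCoh.depth (X.presheaf.stalk x) (E.presheaf.stalk x)) :
    IsIso ((unitJ U.ι).app E) :=
  (isIso_unit_iff U).2 (bijective_res_of_depth U hE hd)

/-- Morphisms into a module of depth at least two outside `U` are determined by their restriction to `U`. -/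
theorem bijective_restrict_hom (hE : Coh.IsCoh E)
    (hd : ∀ x : X, x ∉ U → (2 : ℕ∞) ≤ LocCoh.depth (X.presheaf.stalk x) (E.presheaf.stalk x)) (F : X.Modules) :
    Function.Bijective (fun φ : F ⟶ E => (Scheme.Modules.restrictFunctor U.ι).map φ) := by
  haveI := isIso_unit_of_depth U hE hd
  let adj := Scheme.Modules.restrictAdjunction U.ι
  haveI : IsIso (adj.unit.app E) := this
  have key : ∀ φ : F ⟶ E, adj.homEquiv F _ ((Scheme.Modules.restrictFunctor U.ι).map φ) = φ ≫ adj.unit.app E :=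
    fun φ => by rw [Adjunction.homEquiv_unit]; exact (adj.unit.naturality φ).symm
  refine ⟨fun φ ψ h => (cancel_mono (adj.unit.app E)).1 ?_, fun g => ?_⟩
  · rw [← key, ← key]
    exact congrArg (adj.homEquiv F _) h
  · refine ⟨adj.homEquiv F _ g ≫ inv (adj.unit.app E), (adj.homEquiv F _).injective ?_⟩
    rw [key, Category.assoc, IsIso.inv_hom_id, Category.comp_id]

omit [IsLocallyNoetherian X] in
theorem bijective_res_push (F : X.Modules) (V : X.Opens) :
    Function.Bijective (((Coh.push U.ι).obj (F.restrict U.ι)).presheaf.map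
      (homOfLE (inf_le_left : V ⊓ U ≤ V)).op).hom := by
  have hV : U.ι ''ᵁ (U.ι ⁻¹ᵁ V) = U.ι ''ᵁ (U.ι ⁻¹ᵁ (V ⊓ U)) := by
    rw [Scheme.Hom.image_preimage_eq_opensRange_inf, Scheme.Hom.image_preimage_eq_opensRange_inf,
      Scheme.Opens.opensRange_ι, inf_comm V U, ← inf_assoc, inf_idem]
  have key : ∀ (A B : X.Opens) (i : op A ⟶ op B), A = B → Function.Bijective (F.presheaf.map i).hom := by
    intro A B i e
    subst e
    rw [Subsingleton.elim i (𝟙 _), F.presheaf.map_id]
    exact Function.bijective_id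
  exact key _ _ _ hV

/-- `j_*(F|_U)` has depth at least two outside `U` when it is coherent. -/
theorem depth_push (F : X.Modules) (hF' : Coh.IsCoh ((Coh.push U.ι).obj (F.restrict U.ι))) (x : X) (hx : x ∉ U) :
    (2 : ℕ∞) ≤ LocCoh.depth (X.presheaf.stalk x) (((Coh.push U.ι).obj (F.restrict U.ι)).presheaf.stalk x) :=
  depth_of_bijective_res U hF' (fun V _ => bijective_res_push U F V) x hx

/-- The universal property of `F ⟶ j_*(F|_U)`. -/
theorem existsUnique_lift (F : X.Modules) {G : X.Modules} (hG : Coh.IsCoh G) (φ : F ⟶ G)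
    (hφ : IsIso ((Scheme.Modules.restrictFunctor U.ι).map φ))
    (hd : ∀ x : X, x ∉ U → (2 : ℕ∞) ≤ LocCoh.depth (X.presheaf.stalk x) (G.presheaf.stalk x)) :
    (∃! ψ : G ⟶ (Coh.push U.ι).obj (F.restrict U.ι),
        φ ≫ ψ = (Scheme.Modules.restrictAdjunction U.ι).unit.app F) ∧
      ∀ ψ : G ⟶ (Coh.push U.ι).obj (F.restrict U.ι),
        φ ≫ ψ = (Scheme.Modules.restrictAdjunction U.ι).unit.app F → IsIso ψ := by
  haveI := isIso_unit_of_depth U hG hd
  let adj := Scheme.Modules.restrictAdjunction U.ι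
  haveI : IsIso (adj.unit.app G) := this
  let R := Scheme.Modules.restrictFunctor U.ι
  haveI : IsIso (R.map φ) := hφ
  let ψ₀ := adj.homEquiv G _ (inv (R.map φ))
  have huniq : ∀ ψ : G ⟶ (Coh.push U.ι).obj (F.restrict U.ι),
      φ ≫ ψ = adj.unit.app F ↔ ψ = ψ₀ := fun ψ => by
    obtain ⟨g, rfl⟩ := (adj.homEquiv G (F.restrict U.ι)).surjective ψ
    rw [← Adjunction.homEquiv_naturality_left, ← Adjunction.homEquiv_id, EmbeddingLike.apply_eq_iff_eq,
      EmbeddingLike.apply_eq_iff_eq]
    constructor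
    · intro h
      rw [← cancel_epi (R.map φ), IsIso.hom_inv_id]
      exact h
    · rintro rfl
      exact IsIso.hom_inv_id (R.map φ)
  haveI : IsIso ψ₀ := by
    show IsIso (adj.homEquiv G _ (inv (R.map φ)))
    rw [Adjunction.homEquiv_unit]
    infer_instance
  exact ⟨⟨ψ₀, (huniq ψ₀).2 rfl, fun ψ hψ => (huniq ψ).1 hψ⟩,
    fun ψ hψ => by rw [(huniq ψ).1 hψ]; infer_instance⟩

end Groth.Agent.LocCohDepth
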