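import Groth.Agent.FlasqueSupp.Core
import Groth.Agent.QCoh.Ab.Restrict

/-!
# Dimension shifting for cohomology with supports, and restriction along open embeddings
-/

set_option autoImplicit false

universe u

open CategoryTheory CategoryTheory.Limits Opposite TopologicalSpace Topology

namespace Groth.Agent.LocCohDepth

variable {X : TopCat.{u}} {W V : Opens X} (h : W ≤ V)

theorem sect0Equiv_map {F G : CohTop.Ab X} (g : F ⟶ G) (x : LocCohZ.HZ F 0 h) :
    (LocCohZ.sect0Equiv G h (LocCohZ.map g 0 h x)).1 = (g.hom.app (op V)).hom (LocCohZ.sect0Equiv F h x).1 := by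
  obtain ⟨φ, rfl⟩ := Abelian.Ext.addEquiv₀.symm.surjective x
  show CohFree.evalGen _ V G (cokernel.π _ ≫ Abelian.Ext.addEquiv₀
      ((Abelian.Ext.mk₀ φ).comp (Abelian.Ext.mk₀ g) (add_zero 0))) =
    (g.hom.app (op V)).hom (CohFree.evalGen _ V F (cokernel.π _ ≫ Abelian.Ext.addEquiv₀ (Abelian.Ext.mk₀ φ)))
  rw [Abelian.Ext.mk₀_comp_mk₀, ← Abelian.Ext.addEquiv₀_symm_apply, ← Abelian.Ext.addEquiv₀_symm_apply,
    AddEquiv.apply_symm_apply, AddEquiv.apply_symm_apply]
  rfl

theorem surjective_map_zero_iff {F G : CohTop.Ab X} (g : F ⟶ G) :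
    Function.Surjective (LocCohZ.map g 0 h) ↔
      ∀ s : LocCohZ.sectZ G h, ∃ t : LocCohZ.sectZ F h, (g.hom.app (op V)).hom t.1 = s.1 := by
  refine ⟨fun hs s => ?_, fun hs y => ?_⟩
  · obtain ⟨x, hx⟩ := hs ((LocCohZ.sect0Equiv G h).symm s)
    refine ⟨LocCohZ.sect0Equiv F h x, ?_⟩
    rw [← sect0Equiv_map, hx, AddEquiv.apply_symm_apply]
  · obtain ⟨t, ht⟩ := hs (LocCohZ.sect0Equiv G h y)
    refine ⟨(LocCohZ.sect0Equiv F h).symm t, (LocCohZ.sect0Equiv G h).injective (Subtype.ext ?_)⟩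
    rw [sect0Equiv_map, AddEquiv.apply_symm_apply, ht]

variable {S : ShortComplex (CohTop.Ab X)} (hS : S.ShortExact) [TopCat.Sheaf.IsFlasque S.X₂]
include hS

theorem subsingleton_one_iff :
    Subsingleton (LocCohZ.HZ S.X₁ 1 h) ↔ Function.Surjective (LocCohZ.map S.g 0 h) := by
  refine ⟨fun hs y => Abelian.Ext.covariant_sequence_exact₃ _ hS y (zero_add 1) (Subsingleton.elim _ _),
    fun hs => subsingleton_of_forall_eq 0 fun x => ?_⟩
  obtain ⟨y, rfl⟩ := Abelian.Ext.covariant_sequence_exact₁ _ hS x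
    ((FlasqueSupp.subsingleton_HZ S.X₂ h 0).elim _ _) (n₀ := 0) rfl
  obtain ⟨z, rfl⟩ := hs y
  show ((Abelian.Ext.comp z (Abelian.Ext.mk₀ S.g) (add_zero 0))).comp hS.extClass _ = 0
  rw [Abelian.Ext.comp_assoc_of_second_deg_zero, ShortComplex.ShortExact.comp_extClass, Abelian.Ext.comp_zero]

theorem subsingleton_one_iff_of_zero [Subsingleton (LocCohZ.HZ S.X₂ 0 h)] :
    Subsingleton (LocCohZ.HZ S.X₁ 1 h) ↔ Subsingleton (LocCohZ.HZ S.X₃ 0 h) :=
  (subsingleton_one_iff h hS).trans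
    ⟨fun hs => hs.subsingleton, fun hs y => ⟨0, Subsingleton.elim _ _⟩⟩

theorem subsingleton_add_two_iff (i : ℕ) :
    Subsingleton (LocCohZ.HZ S.X₁ (i + 2) h) ↔ Subsingleton (LocCohZ.HZ S.X₃ (i + 1) h) := by
  refine ⟨fun hs => subsingleton_of_forall_eq 0 fun x => ?_, fun hs => subsingleton_of_forall_eq 0 fun x => ?_⟩
  · obtain ⟨y, rfl⟩ := Abelian.Ext.covariant_sequence_exact₃ _ hS x (n₁ := i + 2) rfl (Subsingleton.elim _ _)
    rw [(FlasqueSupp.subsingleton_HZ S.X₂ h i).elim y 0, Abelian.Ext.zero_comp]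
  · obtain ⟨y, rfl⟩ := Abelian.Ext.covariant_sequence_exact₁ _ hS x
      ((FlasqueSupp.subsingleton_HZ S.X₂ h (i + 1)).elim _ _) (n₀ := i + 1) rfl
    rw [Subsingleton.elim y 0, Abelian.Ext.zero_comp]

omit hS

/-- Excision: vanishing of cohomology with supports is intrinsic to an open subspace. -/
theorem subsingleton_restr_iff {Y : TopCat.{u}} {f : Y ⟶ X} (hf : IsOpenEmbedding f) {W' V' : Opens Y}
    (h' : W' ≤ V') : ∀ (i : ℕ) (F : CohTop.Ab X),
    Subsingleton (LocCohZ.HZ ((QCoh.Ab.restr hf).obj F) i h') ↔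
      Subsingleton (LocCohZ.HZ F i (leOfHom (hf.isOpenMap.functor.map (homOfLE h')))) := by
  intro i
  induction i with
  | zero =>
    intro F
    rw [(LocCohZ.sect0Equiv _ _).toEquiv.subsingleton_congr, (LocCohZ.sect0Equiv _ _).toEquiv.subsingleton_congr]
    rfl
  | succ i ih =>
    intro F
    let T : ShortComplex (CohTop.Ab X) :=
      ShortComplex.mk (Injective.ι F) (cokernel.π (Injective.ι F)) (cokernel.condition _)
    have hT : T.ShortExact :=
      { exact := ShortComplex.exact_of_g_is_cokernel _ (cokernelIsCokernel _) }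
    haveI hfl : TopCat.Sheaf.IsFlasque T.X₂ := SiteBase.isFlasque_of_injective (Injective.under F)
    haveI : TopCat.Sheaf.IsFlasque (T.map (QCoh.Ab.restr hf)).X₂ := QCoh.Ab.isFlasque_restr hf T.X₂
    rcases i with _ | i
    · refine (subsingleton_one_iff h' (QCoh.Ab.restr_shortExact hf hT)).trans ?_
      refine Iff.trans ?_ (subsingleton_one_iff _ hT).symm
      rw [surjective_map_zero_iff, surjective_map_zero_iff]
      rfl
    · exact (subsingleton_add_two_iff h' (QCoh.Ab.restr_shortExact hf hT) i).trans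
        ((ih T.X₃).trans (subsingleton_add_two_iff _ hT i).symm)

theorem subsingleton_congr_opens (F : CohTop.Ab X) (i : ℕ) {W' V' : Opens X} (h' : W' ≤ V') (hW : W' = W)
    (hV : V' = V) : Subsingleton (LocCohZ.HZ F i h') ↔ Subsingleton (LocCohZ.HZ F i h) := by
  subst hW hV
  rfl

theorem subsingleton_congr_iso {F G : CohTop.Ab X} (e : F ≅ G) (i : ℕ) :
    Subsingleton (LocCohZ.HZ F i h) ↔ Subsingleton (LocCohZ.HZ G i h) := by
  refine Equiv.subsingleton_congr
    { toFun := LocCohZ.map e.hom i h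
      invFun := LocCohZ.map e.inv i h
      left_inv := fun x => ?_
      right_inv := fun x => ?_ }
  · show Abelian.Ext.comp (Abelian.Ext.comp x (Abelian.Ext.mk₀ e.hom) (add_zero i)) (Abelian.Ext.mk₀ e.inv) (add_zero i) = x
    rw [Abelian.Ext.comp_assoc_of_second_deg_zero, Abelian.Ext.mk₀_comp_mk₀, e.hom_inv_id, Abelian.Ext.comp_mk₀_id]
  · show Abelian.Ext.comp (Abelian.Ext.comp x (Abelian.Ext.mk₀ e.inv) (add_zero i)) (Abelian.Ext.mk₀ e.hom) (add_zero i) = x
    rw [Abelian.Ext.comp_assoc_of_second_deg_zero, Abelian.Ext.mk₀_comp_mk₀, e.inv_hom_id, Abelian.Ext.comp_mk₀_id]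

end Groth.Agent.LocCohDepth
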