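import Groth.Agent.LocCohDepth.TildeFlasque
import Groth.Agent.LocCohDepth.Shift
import Groth.Agent.LC.Depth
import Groth.Agent.QCoh.Tilde
import Groth.Agent.QCoh.HHExact

/-!
# Cohomology with supports on a Noetherian affine scheme and local cohomology of modules: vanishing ranges

`H^i_{V(I)}(Spec A, N~)` vanishes for `i < n` if and only if `H^i_I(N)` does, by dimension shifting along an
injective hull.
-/

set_option autoImplicit false

universe u

open CategoryTheory CategoryTheory.Limits AlgebraicGeometry Opposite TopologicalSpace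

namespace Groth.Agent.LocCohDepth

variable {A : Type u} [CommRing A] [IsNoetherianRing A] (I : Ideal A)

/-- The abelian sheaf of a module. -/
noncomputable abbrev abT (N : ModuleCat.{u} A) : CohTop.Ab (Spec (CommRingCat.of A)).carrier :=
  Coh.toAb (tilde (R := CommRingCat.of A) N)

/-- Cohomology with supports in `V(I)`. -/
noncomputable abbrev hz (N : ModuleCat.{u} A) (i : ℕ) : Type u :=
  LocCohZ.HZ (X := (Spec (CommRingCat.of A)).carrier) (abT N) i
    (le_top : LocCoh.puncturedOpen A I ≤ (⊤ : (Spec (CommRingCat.of A)).Opens))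

theorem subsingleton_hz_zero_iff (N : ModuleCat.{u} A) :
    Subsingleton (hz I N 0) ↔ DRing.torsionSub I N = ⊥ := by
  refine ((LocCohZ.sect0Equiv _ _).toEquiv.subsingleton_congr).trans ?_
  constructor
  · intro h
    refine (Submodule.eq_bot_iff _).2 fun m hm => ?_
    have hm' : LocCohSec.res (R := CommRingCat.of A) N (le_top : LocCoh.puncturedOpen A I ≤ ⊤)
        (LocCohSec.toSec (R := CommRingCat.of A) N ⊤ m) = 0 := by
      rw [LocCohSec.res_toSec]
      exact LinearMap.mem_ker.1 ((LocCohSec.mem_ker_toSec N I m).2 hm)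
    have := congrArg Subtype.val (h.elim ⟨LocCohSec.toSec (R := CommRingCat.of A) N ⊤ m, hm'⟩ 0)
    exact LocCohSec.toSec_top_injective N (this.trans (map_zero _).symm)
  · intro h
    refine subsingleton_of_forall_eq 0 fun s => Subtype.ext ?_
    haveI := tilde.isIso_toOpen_top (R := CommRingCat.of A) (M := N)
    obtain ⟨m, hm⟩ := (ConcreteCategory.bijective_of_isIso (tilde.toOpen (R := CommRingCat.of A) N ⊤)).2 s.1
    have h0 : m ∈ DRing.torsionSub I N := (LocCohSec.mem_ker_toSec N I m).1 (by
      rw [LinearMap.mem_ker, ← LocCohSec.res_toSec N (le_top : LocCoh.puncturedOpen A I ≤ ⊤) m]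
      exact (congrArg (LocCohSec.res (R := CommRingCat.of A) N le_top) hm).trans s.2)
    rw [← hm, (Submodule.eq_bot_iff _).1 h m h0]
    exact map_zero (LocCohSec.toSec (R := CommRingCat.of A) N ⊤)

omit [IsNoetherianRing A] in
theorem shortExact_tilde {R : CommRingCat.{u}} {S : ShortComplex (ModuleCat.{u} R)} (hS : S.ShortExact) :
    ((S.map (tilde.functor R)).map (QCoh.toAbFunctor (Spec R))).ShortExact :=
  QCoh.toAb_shortExact (hS.map_of_exact (tilde.functor R))

theorem forall_lt_succ_iff {p : ℕ → Prop} (n : ℕ) :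
    (∀ i < n + 1, p i) ↔ p 0 ∧ ∀ i < n, p (i + 1) :=
  ⟨fun h => ⟨h 0 (Nat.succ_pos n), fun i hi => h _ (Nat.succ_lt_succ hi)⟩,
    fun h i hi => match i with
      | 0 => h.1
      | i + 1 => h.2 i (Nat.lt_of_succ_lt_succ hi)⟩

theorem vanishing_iff : ∀ (n : ℕ) (N : ModuleCat.{u} A),
    (∀ i < n, Subsingleton (hz I N i)) ↔ ∀ i < n, Subsingleton ((localCohomology I i).obj N)
  | 0, N => iff_of_true (fun i hi => absurd hi (Nat.not_lt_zero i)) fun i hi => absurd hi (Nat.not_lt_zero i)
  | n + 1, N => by
    rw [forall_lt_succ_iff, forall_lt_succ_iff, subsingleton_hz_zero_iff, LC.subsingleton_H0_iff]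
    refine and_congr_right fun h0 => ?_
    obtain ⟨S, hS, rfl, hinj, hE⟩ := LC.exists_torsionFree_seq I N h0
    haveI : Module.Injective A S.X₂ := Module.injective_module_of_injective_object A S.X₂
    have hT := shortExact_tilde (R := CommRingCat.of A) hS
    haveI : TopCat.Sheaf.IsFlasque (abT S.X₂) := isFlasque_tilde S.X₂
    haveI h2 : Subsingleton (hz I S.X₂ 0) := (subsingleton_hz_zero_iff I S.X₂).2 hE
    have hshift : ∀ i, Subsingleton (hz I S.X₁ (i + 1)) ↔ Subsingleton (hz I S.X₃ i) := by
      rintro (_ | i)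
      · exact @subsingleton_one_iff_of_zero _ _ _ _ _ hT (isFlasque_tilde S.X₂) h2
      · exact @subsingleton_add_two_iff _ _ _ _ _ hT (isFlasque_tilde S.X₂) i
    have hH : ∀ k, Subsingleton ((localCohomology I k).obj S.X₂) := by
      rintro (_ | k)
      · exact (LC.subsingleton_H0_iff I S.X₂).2 hE
      · exact LC.subsingleton_of_injective I S.X₂ k
    have hshiftH : ∀ i, Subsingleton ((localCohomology I (i + 1)).obj S.X₁) ↔
        Subsingleton ((localCohomology I i).obj S.X₃) := fun i => by
      refine ⟨fun _ => subsingleton_of_forall_eq 0 fun z => ?_, fun _ => subsingleton_of_forall_eq 0 fun z => ?_⟩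
      · obtain ⟨w, rfl⟩ := (LC.exact₃ I i hS (i + 1) rfl z).1 (Subsingleton.elim _ _)
        rw [(hH i).elim w 0, map_zero]
      · obtain ⟨w, rfl⟩ := (LC.exact₁ I i hS (i + 1) rfl z).1 ((hH (i + 1)).elim _ _)
        rw [Subsingleton.elim w 0, map_zero]
    refine Iff.trans ?_ ((vanishing_iff n S.X₃).trans ?_)
    · exact forall₂_congr fun i _ => hshift i
    · exact forall₂_congr fun i _ => (hshiftH i).symm

end Groth.Agent.LocCohDepth
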