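import Groth.Agent.LocCohDepth.Affine
import Groth.Agent.ZClosLib.ClosedDepth

/-!
# The affine chart for cohomology with supports of a quasi-coherent module
-/

set_option autoImplicit false

universe u

open CategoryTheory CategoryTheory.Limits AlgebraicGeometry Opposite TopologicalSpace

namespace Groth.Agent.LocCohDepth

/-- On an affine open `W`, cohomology with supports of a quasi-coherent module is that of its module of sections
on the spectrum. -/
theorem subsingleton_chart_iff {X : Scheme.{u}} (U : X.Opens) {M : X.Modules} (hM : Coh.IsQCoh M) {W : X.Opens}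
    (hW : IsAffineOpen W) {P : (Spec Γ(X, W)).Opens} (hP : hW.fromSpec ⁻¹ᵁ U = P) (i : ℕ) :
    Subsingleton (LocCohZ.HZ (X := X.carrier) (Coh.toAb M) i (inf_le_left : W ⊓ U ≤ W)) ↔
      Subsingleton (LocCohZ.HZc (X := (Spec Γ(X, W)).carrier)
        (Coh.toAb (tilde (ModuleCat.of Γ(X, W) Γ(M, W)))) i P) := by
  let f := hW.fromSpec
  obtain ⟨M', ⟨e'⟩⟩ := QCoh.isQCoh_spec_iff.1 (QCoh.isQCoh_restrict f hM)
  let N : ModuleCat.{u} Γ(X, W) := ModuleCat.of _ Γ(M, W)
  let t : N ≅ M' := ((QCoh.chartEquiv hW M).trans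
    ((tilde.toTildeΓNatIso.app M') ≪≫ moduleSpecΓFunctor.mapIso e').toLinearEquiv.symm).toModuleIso
  let eAb : Coh.toAb (tilde N) ≅ (QCoh.Ab.restr f.isOpenEmbedding).obj (Coh.toAb M) :=
    (QCoh.toAbFunctor _).mapIso ((tilde.functor Γ(X, W)).mapIso t ≪≫ e')
  refine Iff.trans ?_ ((subsingleton_congr_iso _ eAb i).trans
    (subsingleton_restr_iff f.isOpenEmbedding _ i (Coh.toAb M))).symm
  subst hP
  refine subsingleton_congr_opens _ _ _ _ ?_ ?_
  · refine Opens.ext ?_
    show (W : Set X) ∩ U = f '' (f ⁻¹' U)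
    rw [Set.image_preimage_eq_inter_range, hW.range_fromSpec, Set.inter_comm]
  · refine Opens.ext ?_
    show (W : Set X) = f '' Set.univ
    rw [Set.image_univ, hW.range_fromSpec]

variable {X : Scheme.{u}} [IsLocallyNoetherian X]

/-- On an affine open `W`, cohomology with supports of a quasi-coherent module is that of its module of sections,
supported in the ideal of `W \ U`. -/
theorem exists_chart (U : X.Opens) {M : X.Modules} (hM : Coh.IsQCoh M) {W : X.Opens}
    (hW : IsAffineOpen W) [IsNoetherianRing Γ(X, W)] :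
    ∃ I : Ideal Γ(X, W), (∀ q : Spec Γ(X, W), I ≤ q.asIdeal ↔ hW.fromSpec q ∉ U) ∧
      ∀ i, Subsingleton (LocCohZ.HZ (X := X.carrier) (Coh.toAb M) i (inf_le_left : W ⊓ U ≤ W)) ↔
        Subsingleton (hz I (ModuleCat.of Γ(X, W) Γ(M, W)) i) := by
  let f := hW.fromSpec
  obtain ⟨I, hI⟩ := (PrimeSpectrum.isClosed_iff_zeroLocus_ideal (R := Γ(X, W))
    (((f ⁻¹ᵁ U : (Spec Γ(X, W)).Opens) : Set (Spec Γ(X, W)))ᶜ)).1 (f ⁻¹ᵁ U).2.isClosed_compl
  have hpre : f ⁻¹ᵁ U = LocCoh.puncturedOpen Γ(X, W) I :=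
    SetLike.coe_injective ((compl_compl _).symm.trans (congrArg compl hI))
  have hmem : ∀ q : Spec Γ(X, W), I ≤ q.asIdeal ↔ f q ∉ U := fun q => by
    rw [← not_iff_not, not_not]
    exact (SetLike.ext_iff.1 hpre q).symm
  exact ⟨I, hmem, fun i => subsingleton_chart_iff U hM hW hpre i⟩

end Groth.Agent.LocCohDepth
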