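import Groth.Agent.Lib.KoszulSheaf
import Groth.Agent.GrLib8.KoszulColim
import Groth.Agent.GrLib8.LocZLES
import Groth.Agent.GrLib8.HZResIff
import Groth.Agent.QCoh.Bound
import Groth.Agent.SiteBase.OpenRestr
import Groth.Agent.SiteBase.Cohom
import Groth.Prelude.Def_LocCohZ

/-!
# Cohomology with supports on an affine scheme and colimits of Koszul cohomology
-/

set_option autoImplicit false

universe u

open CategoryTheory CategoryTheory.Limits AlgebraicGeometry Opposite TopologicalSpace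

namespace Groth.Agent.LocCohDepth

open Lib.KoszulSheaf LocCohSec

variable {R : CommRingCat.{u}} (fs : List R) (M : ModuleCat.{u} R)

set_option quotPrecheck false in
local notation "ℱ" => (Coh.toAb (tilde M) : CohTop.Ab (Spec R).carrier)

theorem uni_eq_puncturedOpen {A : Type u} [CommRing A] (gs : List A) :
    uni (R := CommRingCat.of A) gs = LocCoh.puncturedOpen A (Ideal.span {a | a ∈ gs}) := by
  refine SetLike.coe_injective (Set.ext fun x => ?_)
  refine Opens.mem_iSup.trans ?_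
  show (∃ i, gs.get i ∉ x.asIdeal) ↔ ¬ ((Ideal.span {a | a ∈ gs} : Set A) ⊆ (x.asIdeal : Set A))
  rw [SetLike.coe_subset_coe, Ideal.span_le, Set.not_subset]
  constructor
  · rintro ⟨i, hi⟩
    exact ⟨gs.get i, List.get_mem gs i, hi⟩
  · rintro ⟨a, ha, hax⟩
    obtain ⟨i, rfl⟩ := List.get_of_mem ha
    exact ⟨i, hax⟩

theorem subsingleton_HU_top (n : ℕ) : Subsingleton (CohTop.HU (X := (Spec R).carrier) ℱ (n + 1) ⊤) :=
  QCoh.subsingleton_HU_of_isAffineOpen (QCoh.isQCoh_spec_iff.2 ⟨M, ⟨Iso.refl _⟩⟩) (isAffineOpen_top (Spec R)) n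

theorem res_huZero {U V : (Spec R).Opens} (h : U ≤ V) (x : CohTop.HU (X := (Spec R).carrier) ℱ 0 V) :
    SiteBase.huZero ℱ U (CohTop.res (X := (Spec R).carrier) ℱ 0 h x) =
      (res M h) (SiteBase.huZero ℱ V x) := by
  obtain ⟨φ, rfl⟩ : ∃ φ, Abelian.Ext.mk₀ φ = x :=
    ⟨Abelian.Ext.addEquiv₀ x, Abelian.Ext.addEquiv₀.symm_apply_apply x⟩
  show SiteBase.huZero ℱ U ((Abelian.Ext.mk₀ _).comp (Abelian.Ext.mk₀ φ) (zero_add 0)) = _
  rw [Abelian.Ext.mk₀_comp_mk₀, SiteBase.huZero_mk₀, SiteBase.huZero_mk₀]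
  exact SiteBase.secEquiv_freeSheafMap (J := Opens.grothendieckTopology (Spec R).carrier) (homOfLE h) φ

theorem nonempty_HZ_koszul (i : ℕ) :
    Nonempty (LocCohZ.HZc (X := (Spec R).carrier) ℱ i (uni fs) ≃+ CohIII.koszulHLim fs M i) := by
  obtain ⟨k⟩ := GrLib8.KoszulColim.nonempty_equiv fs M i
  suffices h : Nonempty (LocCohZ.HZc (X := (Spec R).carrier) ℱ i (uni fs) ≃+ E fs M i) by
    obtain ⟨h⟩ := h
    exact ⟨h.trans k.toAddEquiv.symm⟩
  clear k
  have hbij : Function.Bijective (toSec M ⊤) := by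
    haveI := tilde.isIso_toOpen_top (M := M)
    exact ConcreteCategory.bijective_of_isIso (tilde.toOpen M ⊤)
  let τ : M ≃+ sec M ⊤ := AddEquiv.ofBijective (toSec M ⊤).toAddMonoidHom hbij
  rcases i with _ | _ | q
  · obtain ⟨ek⟩ := nonempty_ker fs M
    have hW := utop_eq fs
    generalize uni fs = W at hW ⊢
    subst hW
    refine ⟨(LocCohZ.sect0Equiv ℱ (le_top : utop fs ≤ ⊤)).trans (AddEquiv.trans ?_ ek)⟩
    exact
      { toFun := fun s => ⟨τ.symm s.1, (congrArg (res M (le_top : utop fs ≤ ⊤)) (τ.apply_symm_apply s.1)).trans s.2⟩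
        invFun := fun m => ⟨τ m.1, m.2⟩
        left_inv := fun s => Subtype.ext (τ.apply_symm_apply s.1)
        right_inv := fun m => Subtype.ext (τ.symm_apply_apply m.1)
        map_add' := fun s t => Subtype.ext (τ.symm.map_add s.1 t.1) }
  · obtain ⟨ec⟩ := nonempty_coker fs M
    have hW := utop_eq fs
    generalize uni fs = W at hW ⊢
    subst hW
    haveI := subsingleton_HU_top M 0
    let φ : sec M (utop fs) →+ LocCohZ.HZc (X := (Spec R).carrier) ℱ 1 (utop fs) :=
      (LocCohZ.delta ℱ 0 (le_top : utop fs ≤ ⊤)).comp (SiteBase.huZero ℱ (utop fs)).symm.toAddMonoidHom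
    have hsurj : Function.Surjective φ :=
      (GrLib8.LocZ.delta_surjective _ _ 0).comp (SiteBase.huZero ℱ (utop fs)).symm.surjective
    have hker : (LinearMap.range (toSec M (utop fs))).toAddSubgroup = φ.ker := by
      ext s
      refine ⟨fun ⟨m, hm⟩ => ?_, fun hs => ?_⟩
      · show LocCohZ.delta ℱ 0 _ ((SiteBase.huZero ℱ (utop fs)).symm s) = 0
        have : (SiteBase.huZero ℱ (utop fs)).symm s =
            CohTop.res (X := (Spec R).carrier) ℱ 0 (le_top : utop fs ≤ ⊤) ((SiteBase.huZero ℱ ⊤).symm (toSec M ⊤ m)) := by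
          refine (SiteBase.huZero ℱ (utop fs)).injective ?_
          rw [AddEquiv.apply_symm_apply, res_huZero, AddEquiv.apply_symm_apply]
          exact hm.symm
        rw [this]
        exact GrLib8.LocZ.delta_res ℱ _ 0 _
      · obtain ⟨y, hy⟩ := GrLib8.LocZ.exists_res_of_delta_eq_zero ℱ (le_top : utop fs ≤ ⊤) 0 _ hs
        obtain ⟨m, hm⟩ := hbij.2 (SiteBase.huZero ℱ ⊤ y)
        refine ⟨m, ?_⟩
        refine (res_toSec M (le_top : utop fs ≤ ⊤) m).symm.trans ?_
        rw [hm, ← res_huZero]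
        exact (congrArg (SiteBase.huZero ℱ (utop fs)) hy).trans ((SiteBase.huZero ℱ (utop fs)).apply_symm_apply s)
    exact ⟨((QuotientAddGroup.quotientAddEquivOfEq hker).trans
      (QuotientAddGroup.quotientKerEquivOfSurjective φ hsurj)).symm.trans ec⟩
  · obtain ⟨e⟩ := nonempty_higher fs q M
    obtain ⟨eU⟩ := SiteBase.nonempty_HU_addEquiv_H_restr (X := (Spec R).carrier) (uni fs) ℱ (q + 1)
    haveI := subsingleton_HU_top M q
    haveI := subsingleton_HU_top M (q + 1)
    let δ : CohTop.HU (X := (Spec R).carrier) ℱ (q + 1) (uni fs) ≃+ LocCohZ.HZc (X := (Spec R).carrier) ℱ (q + 2) (uni fs) :=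
      AddEquiv.ofBijective (LocCohZ.delta ℱ (q + 1) (le_top : uni fs ≤ ⊤))
        ⟨GrLib8.LocZ.delta_injective _ _ _, GrLib8.LocZ.delta_surjective _ _ _⟩
    exact ⟨δ.symm.trans (eU.trans e)⟩

/-- Restriction of global sections is surjective when there is no first cohomology with supports. -/
theorem surjective_res (W : (Spec R).Opens)
    (h : Subsingleton (LocCohZ.HZc (X := (Spec R).carrier) (Coh.toAb (tilde M)) 1 W)) :
    Function.Surjective (res M (le_top : W ≤ ⊤)) := by
  intro t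
  haveI : Subsingleton (LocCohZ.HZ (X := (Spec R).carrier) (Coh.toAb (tilde M)) (0 + 1) (le_top : W ≤ ⊤)) := h
  obtain ⟨y, hy⟩ := GrLib8.LocZ.res_surjective (X := (Spec R).carrier) (Coh.toAb (tilde M)) (le_top : W ≤ ⊤) 0
    ((SiteBase.huZero (Coh.toAb (tilde M)) W).symm t)
  refine ⟨SiteBase.huZero (Coh.toAb (tilde M)) ⊤ y, ?_⟩
  have h1 := res_huZero M (le_top : W ≤ ⊤) y
  rw [hy] at h1
  refine Eq.trans h1.symm ?_
  exact (SiteBase.huZero (Coh.toAb (tilde M)) W).apply_symm_apply t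

end Groth.Agent.LocCohDepth
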