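import Groth.Agent.LocCohDepth.Chart
import Groth.Agent.LocCohDepth.Koszul
import Groth.Agent.GrLib8.HZshPre
import Groth.Agent.S9264

/-!
# Local cohomology sheaves of a closed subset cut out locally by few equations
-/

set_option autoImplicit false

universe u

open CategoryTheory CategoryTheory.Limits AlgebraicGeometry Opposite TopologicalSpace

namespace Groth.Agent.LocCohDepth

variable {X : Scheme.{u}}

theorem preimage_eq_uni (U : X.Opens) {W : X.Opens} (hW : IsAffineOpen W) (gs : List Γ(X, W))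
    (hgs : ∀ y ∈ W, y ∈ U ↔ ∃ g ∈ gs, y ∈ X.basicOpen g) :
    hW.fromSpec ⁻¹ᵁ U = Lib.KoszulSheaf.uni gs := by
  ext q
  have hq : hW.fromSpec q ∈ W := by rw [← SetLike.mem_coe, ← hW.range_fromSpec]; exact ⟨q, rfl⟩
  refine (hgs _ hq).trans (Iff.trans ?_ Opens.mem_iSup.symm)
  constructor
  · rintro ⟨g, hg, hgq⟩
    obtain ⟨i, rfl⟩ := List.get_of_mem hg
    exact ⟨i, (hW.fromSpec_preimage_basicOpen (gs.get i)).le hgq⟩
  · rintro ⟨i, hi⟩
    exact ⟨gs.get i, List.get_mem gs i, (hW.fromSpec_preimage_basicOpen (gs.get i)).ge hi⟩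

theorem subsingleton_HZ_of_extCech (U : X.Opens) {M : X.Modules} (hM : Coh.IsQCoh M) {W : X.Opens}
    (hW : IsAffineOpen W) (gs : List Γ(X, W)) (hgs : ∀ y ∈ W, y ∈ U ↔ ∃ g ∈ gs, y ∈ X.basicOpen g) (i : ℕ)
    (h : IsZero (DerCA.extCechH gs (ModuleCat.of Γ(X, W) Γ(M, W)) (i : ℤ))) :
    Subsingleton (LocCohZ.HZ (X := X.carrier) (Coh.toAb M) i (inf_le_left : W ⊓ U ≤ W)) := by
  rw [subsingleton_chart_iff U hM hW (preimage_eq_uni U hW gs hgs)]
  obtain ⟨e⟩ := nonempty_HZ_koszul gs (ModuleCat.of Γ(X, W) Γ(M, W)) i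
  obtain ⟨k⟩ := GrLib8.KoszulColim.nonempty_equiv gs (ModuleCat.of Γ(X, W) Γ(M, W)) i
  haveI := ModuleCat.subsingleton_of_isZero h
  exact (e.trans k.toAddEquiv).toEquiv.subsingleton

/-- The functions cutting out `U` on `V`, restricted to `W ≤ V`. -/
theorem mem_iff_restrict (U : X.Opens) {V W : X.Opens} (hWV : W ≤ V) (fs : List Γ(X, V))
    (hfs : X.zeroLocus (U := V) {a | a ∈ fs} ∩ (V : Set X) = (U : Set X)ᶜ ∩ (V : Set X)) :
    ∀ y ∈ W, y ∈ U ↔ ∃ g ∈ fs.map (X.presheaf.map (homOfLE hWV).op).hom, y ∈ X.basicOpen g := by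
  intro y hy
  have h := Set.ext_iff.1 hfs y
  simp only [Set.mem_inter_iff, Set.mem_compl_iff, SetLike.mem_coe, hWV hy, and_true,
    Scheme.mem_zeroLocus_iff, Set.mem_setOf_eq] at h
  have hb : ∀ f : Γ(X, V), y ∈ X.basicOpen ((X.presheaf.map (homOfLE hWV).op).hom f) ↔ y ∈ X.basicOpen f := fun f => by
    rw [Scheme.basicOpen_res]
    exact ⟨fun h => h.2, fun h => ⟨hy, h⟩⟩
  constructor
  · intro hU
    by_contra hne
    exact (h.1 fun f hf hyf => hne ⟨_, List.mem_map.2 ⟨f, hf, rfl⟩, (hb f).2 hyf⟩) hU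
  · rintro ⟨g, hg, hgy⟩
    obtain ⟨f, hf, rfl⟩ := List.mem_map.1 hg
    by_contra hU
    exact h.2 hU f hf ((hb f).1 hgy)

theorem isZero_HZsh_of_few_equations (U : X.Opens) (c : ℕ)
    (hT : ∀ x : X, ∃ (V : X.Opens) (fs : List Γ(X, V)), x ∈ V ∧ fs.length ≤ c ∧
      X.zeroLocus (U := V) {a | a ∈ fs} ∩ (V : Set X) = (U : Set X)ᶜ ∩ (V : Set X))
    {F : X.Modules} (hF : Coh.IsQCoh F) (i : ℕ) (hi : c < i) :
    IsZero ((LocCohZ.HZsh (X := X.carrier) U i).obj (Coh.toAb F)) := by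
  refine GrLib8.HZshPre.isZero_of_locallyZero (X := X.carrier) U (Coh.toAb F) i fun O z y hy => ?_
  obtain ⟨V, fs, hyV, hlen, hfs⟩ := hT y
  obtain ⟨W, hW, hyW, hle⟩ := exists_isAffineOpen_mem_and_subset (x := y) (U := O ⊓ V) ⟨hy, hyV⟩
  have hWV : W ≤ V := fun w hw => (hle hw).2
  refine ⟨W, fun w hw => (hle hw).1, hyW, ?_⟩
  refine (subsingleton_HZ_of_extCech U hF hW (fs.map (X.presheaf.map (homOfLE hWV).op).hom)
    (mem_iff_restrict U hWV fs hfs) i ?_).elim _ _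
  refine Groth.Agent.S9264.result _ _ _ _ (Or.inr ?_)
  rw [List.length_map]
  omega

end Groth.Agent.LocCohDepth
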