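import Groth.Agent.AssPtX.Basic
import Groth.Agent.Alg6.AssDepth
import Groth.Agent.CycLib.StalkSES
import Groth.Agent.FDescent.StalkFinite
import Groth.Agent.QCoh.Stalk
import Groth.Agent.QCoh.LocFree

/-!
# An isomorphism criterion: depth two against non-associated points
-/

set_option autoImplicit false

universe u

open CategoryTheory CategoryTheory.Limits AlgebraicGeometry IsLocalRing

namespace Groth.Agent.LocCohDepth

section Algebra

variable {R : Type u} [CommRing R] [IsLocalRing R] [IsNoetherianRing R]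

/-- An element with radical annihilator `m` gives a non-zero element killed by `m`. -/
theorem exists_socle {M : Type u} [AddCommGroup M] [Module R M] (t : M)
    (ht : Ideal.radical (LinearMap.ker (LinearMap.toSpanSingleton R M t)) = maximalIdeal R) :
    ∃ s : M, s ≠ 0 ∧ ∀ r ∈ maximalIdeal R, r • s = 0 := by
  obtain ⟨k, hk⟩ := Ideal.exists_pow_le_of_le_radical_of_fg ht.ge (IsNoetherian.noetherian _)
  have ht0 : t ≠ 0 := by
    rintro rfl
    rw [show LinearMap.ker (LinearMap.toSpanSingleton R M (0 : M)) = ⊤ from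
      eq_top_iff.2 fun r _ => smul_zero r, Ideal.radical_top] at ht
    exact (maximalIdeal.isMaximal R).ne_top ht.symm
  induction k generalizing t with
  | zero =>
    have h1 : (1 : R) • t = 0 := hk (by rw [pow_zero, Ideal.one_eq_top]; trivial)
    exact absurd ((one_smul R t).symm.trans h1) ht0
  | succ k ih =>
    by_cases h : ∀ r ∈ maximalIdeal R, r • t = 0
    · exact ⟨t, ht0, h⟩
    · push_neg at h
      obtain ⟨r, hr, hrt⟩ := h
      have hle : maximalIdeal R ^ k ≤ LinearMap.ker (LinearMap.toSpanSingleton R M (r • t)) := fun a ha => by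
        show a • r • t = 0
        rw [smul_smul]
        exact hk (pow_succ (maximalIdeal R) k ▸ Ideal.mul_mem_mul ha hr)
      refine ih (r • t) ?_ hle hrt
      refine le_antisymm ((maximalIdeal.isMaximal R).isPrime.radical_le_iff.2 fun a ha => ?_) ?_
      · by_contra hau
        exact hrt ((IsLocalRing.notMem_maximalIdeal.1 hau).smul_eq_zero.1 ha)
      · rw [← ht]
        exact Ideal.radical_mono fun a ha => by
          show a • r • t = 0
          rw [smul_comm, show a • t = 0 from ha, smul_zero]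

theorem maximal_mem_ass_of_socle {M : Type u} [AddCommGroup M] [Module R M] {s : M} (hs : s ≠ 0)
    (h : ∀ r ∈ maximalIdeal R, r • s = 0) : maximalIdeal R ∈ associatedPrimes R M := by
  refine ⟨inferInstance, s, ?_⟩
  have : (⊥ : Submodule R M).colon {s} = maximalIdeal R := by
    refine ((maximalIdeal.isMaximal R).eq_of_le ?_ fun r hr => ?_).symm
    · exact fun hc => hs ((one_smul R s).symm.trans
        (Submodule.mem_colon_singleton.1 (hc ▸ Submodule.mem_top : (1 : R) ∈ _)))
    · exact Submodule.mem_colon_singleton.2 ((Submodule.mem_bot R).2 (h r hr))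
  rw [this]
  exact ((maximalIdeal.isMaximal R).isPrime.radical).symm

/-- Depth at least two: socle elements of the cokernel lift. -/
theorem mem_range_of_depth {F G : Type u} [AddCommGroup F] [Module R F] [Module.Finite R F] [AddCommGroup G]
    [Module R G] (φ : F →ₗ[R] G) (hinj : Function.Injective φ) (hd : (2 : ℕ∞) ≤ LocCoh.depth R F)
    (hG : ∀ s : G, (∀ r ∈ maximalIdeal R, r • s = 0) → s = 0) (q : G)
    (hq : ∀ r ∈ maximalIdeal R, r • q ∈ LinearMap.range φ) : q ∈ LinearMap.range φ := by
  have h1 : maximalIdeal R ∉ associatedPrimes R F := (Alg6.two_le_depth_iff'.1 hd).1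
  obtain ⟨x, hx, hreg⟩ := (Alg6.exists_isSMulRegular_mem_iff (M := F) (maximalIdeal R)).mpr
    (fun p hp hle => h1 (by
      rwa [(maximalIdeal.isMaximal R).eq_of_le (IsAssociatedPrime.isPrime hp).ne_top hle]))
  have h2 := (Alg6.two_le_depth_iff'.1 hd).2 x hx hreg
  obtain ⟨a, ha⟩ := hq x hx
  obtain ⟨c, hc⟩ : ∃ c, x • c = a := by
    by_contra hne
    refine h2 (maximal_mem_ass_of_socle (M := QuotSMulTop x F) (s := Submodule.Quotient.mk a) (fun h0 => ?_) ?_)
    · exact hne (by
        obtain ⟨c, -, hc⟩ := Submodule.mem_smul_pointwise_iff_exists _ _ _ |>.1 ((Submodule.Quotient.mk_eq_zero _).1 h0)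
        exact ⟨c, hc⟩)
    · intro r hr
      obtain ⟨b, hb⟩ := hq r hr
      rw [← Submodule.Quotient.mk_smul]
      refine (Submodule.Quotient.mk_eq_zero _).2 ?_
      refine Submodule.mem_smul_pointwise_iff_exists _ _ _ |>.2 ⟨b, trivial, hinj ?_⟩
      rw [map_smul, map_smul, hb, ha, smul_comm]
  have h0 : q - φ c = 0 := hG _ fun r hr => by
    obtain ⟨b, hb⟩ := hq r hr
    have : b - r • c = 0 := hreg.right_eq_zero_of_smul (by
      refine hinj ?_
      rw [map_smul, map_sub, map_smul, hb, smul_sub, map_zero, smul_comm x r (φ c), ← map_smul φ x c, hc, ha,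
        smul_comm x r q, sub_self])
    rw [smul_sub, ← hb, ← map_smul, sub_eq_zero.1 this, sub_self]
  exact ⟨c, (sub_eq_zero.1 h0).symm⟩

end Algebra

variable {X : Scheme.{u}} [IsLocallyNoetherian X] {F G : X.Modules}

theorem isIso_of_depth_two (φ : F ⟶ G) (hF : Coh.IsCoh F) (hG : Coh.IsQCoh G)
    (h : ∀ x : X, Function.Bijective ((TopCat.Presheaf.stalkFunctor AddCommGrpCat.{u} x).map
        (Scheme.Modules.Hom.mapPresheaf φ)) ∨
      ((2 : ℕ∞) ≤ LocCoh.depth (X.presheaf.stalk x) (F.presheaf.stalk x) ∧ ¬ Curv2.IsAssPoint G x)) :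
    IsIso φ := by
  haveI hfin : ∀ x, Module.Finite (X.presheaf.stalk x) (F.presheaf.stalk x) := fun x =>
    QCoh.finite_stalk_of_isFT hF.1 (QCoh.isFT_of_isFP (QCoh.isCoh_iff_isFP.1 hF)) x
  haveI : Mono φ := AssPtX.mono_of_stalk φ hF.1 fun x => by
    rcases h x with hb | ⟨hd, -⟩
    · exact Or.inl hb.1
    · refine Or.inr fun hw => ?_
      obtain ⟨t, ht⟩ := hw
      obtain ⟨s, hs, hsk⟩ := exists_socle t ht
      exact (Alg6.two_le_depth_iff'.1 hd).1 (maximal_mem_ass_of_socle hs hsk)
  have hQ : Coh.IsQCoh (cokernel φ) := QCoh.isQCoh_cokernel hF.1 hG φ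
  haveI : Epi φ := by
    refine Preadditive.epi_of_cokernel_zero (((AssPtX.isZero_iff hQ).2 fun x hw => ?_).eq_of_tgt _ _)
    let T : ShortComplex X.Modules := ShortComplex.mk φ (cokernel.π φ) (cokernel.condition φ)
    have hT : T.ShortExact := { exact := ShortComplex.exact_of_g_is_cokernel _ (cokernelIsCokernel _) }
    obtain ⟨hinj, hex, hsurj⟩ := CycLib.stalk_shortExact hT hF.1 hG hQ x
    obtain ⟨t, ht⟩ := hw
    obtain ⟨s, hs, hsk⟩ := exists_socle t ht
    obtain ⟨q, rfl⟩ := hsurj s
    refine hs ((hex q).2 ?_)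
    rcases h x with hb | ⟨hd, hass⟩
    · exact hb.2 q
    · refine LinearMap.mem_range.1 (mem_range_of_depth (CycLib.stalkLin φ x) hinj hd (fun g hg => ?_) q
        fun r hr => LinearMap.mem_range.2 ((hex (r • q)).1 (by rw [map_smul]; exact hsk r hr)))
      by_contra hg0
      exact hass ⟨inferInstance, (maximal_mem_ass_of_socle hg0 hg).2⟩
  exact isIso_of_mono_of_epi φ

end Groth.Agent.LocCohDepth
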