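import Groth.Agent.LocCohSec.Core
import Groth.Prelude.Def_Coh
import Groth.Prelude.Def_CohTop
import Mathlib.Topology.Sheaves.Flasque

/-!
# The sheaf of an injective module on a Noetherian affine scheme is flasque

Sections over an open `U` are, up to a power of the ideal of its complement, global
(`LocCohSec.exists_pow_smul_mem_range`); the Artin-Rees lemma turns such a section into a linear map on a power
of the ideal, which extends to the whole ring by injectivity.
-/

set_option autoImplicit false

universe u

open CategoryTheory AlgebraicGeometry Opposite TopologicalSpace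

namespace Groth.Agent.LocCohDepth

open LocCohSec

variable {A : Type u} [CommRing A] [IsNoetherianRing A] (E : ModuleCat.{u} (CommRingCat.of A))
  [Module.Injective A E]

/-- Sections of an injective module's sheaf over any open come from the module. -/
theorem toSec_surjective (U : (Spec (CommRingCat.of A)).Opens) : Function.Surjective (toSec E U) := by
  obtain ⟨a, ha⟩ := (PrimeSpectrum.isClosed_iff_zeroLocus_ideal (R := A)
    ((U : Set (Spec (CommRingCat.of A)))ᶜ)).1 U.2.isClosed_compl
  obtain rfl : U = LocCoh.puncturedOpen A a :=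
    SetLike.coe_injective ((compl_compl _).symm.trans (congrArg compl ha))
  intro s
  obtain ⟨n, hn⟩ := exists_pow_smul_mem_range E a s
  obtain ⟨k, r, hr⟩ := Submodule.fg_iff_exists_fin_generating_family.1 (IsNoetherian.noetherian (a ^ n))
  choose m hm using fun i => hn (r i) (hr.le (Submodule.subset_span ⟨i, rfl⟩))
  let π := Fintype.linearCombination A r
  let ψ := Fintype.linearCombination A m
  have hψ : ∀ c, toSec E (LocCoh.puncturedOpen A a) (ψ c) = π c • s := fun c => by
    simp only [π, ψ, Fintype.linearCombination_apply, map_sum, map_smul, hm, Finset.sum_smul, smul_smul,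
      smul_eq_mul]
  obtain ⟨t, ht⟩ := IsNoetherian.noetherian (LinearMap.ker π)
  choose p hp using fun c : t => (mem_ker_toSec E a (ψ c.1)).1 (by
    rw [LinearMap.mem_ker, hψ, LinearMap.mem_ker.1 (ht ▸ Submodule.subset_span c.2 : c.1 ∈ LinearMap.ker π),
      zero_smul])
  let P := ∑ c, p c
  have hP : a ^ P • LinearMap.ker π ≤ LinearMap.ker ψ := by
    refine Submodule.smul_le.2 fun b hb c hc => ?_
    rw [LinearMap.mem_ker, map_smul]
    rw [← ht] at hc
    induction hc using Submodule.span_induction with
    | mem c hc => exact hp ⟨c, hc⟩ b (Ideal.pow_le_pow_right (Finset.single_le_sum (fun i _ => Nat.zero_le (p i))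
        (Finset.mem_univ (⟨c, hc⟩ : t))) hb)
    | zero => rw [map_zero, smul_zero]
    | add x y _ _ hx hy => rw [map_add, smul_add, hx, hy, add_zero]
    | smul q x _ hx => rw [map_smul, smul_comm, hx, smul_zero]
  obtain ⟨j₀, hj₀⟩ := Ideal.exists_pow_inf_eq_pow_smul a (LinearMap.ker π)
  let S : Submodule A (Fin k → A) := a ^ (j₀ + P) • ⊤
  have hS : S ⊓ LinearMap.ker π ≤ LinearMap.ker ψ := by
    rw [show S ⊓ LinearMap.ker π = _ from hj₀ (j₀ + P) (Nat.le_add_right _ _), Nat.add_sub_cancel_left]
    exact le_trans (Submodule.smul_mono le_rfl inf_le_right) hP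
  let π' := π.domRestrict S
  let φ : LinearMap.range π' →ₗ[A] E :=
    (LinearMap.ker π').liftQ (ψ.domRestrict S) (fun c hc => LinearMap.mem_ker.2 (hS ⟨c.2, hc⟩)) ∘ₗ
      π'.quotKerEquivRange.symm.toLinearMap
  obtain ⟨g, hg⟩ := Module.Injective.out (LinearMap.range π').subtype (Submodule.subtype_injective _) φ
  refine ⟨g 1, ?_⟩
  have key : ∀ b ∈ a ^ ((j₀ + P) + n), b • (s - toSec E _ (g 1)) = 0 := by
    intro b hb
    have hmap : a ^ (j₀ + P + n) = S.map π := by
      rw [Submodule.map_smul'', Submodule.map_top, Fintype.range_linearCombination, hr, pow_add]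
      rfl
    rw [hmap] at hb
    obtain ⟨c, hc, rfl⟩ := hb
    have h1 : g (π c) = ψ c := by
      refine (hg ⟨π c, ⟨⟨c, hc⟩, rfl⟩⟩).trans ?_
      show φ ⟨π' ⟨c, hc⟩, LinearMap.mem_range_self π' _⟩ = ψ c
      simp only [φ, LinearMap.comp_apply, LinearEquiv.coe_coe]
      rw [π'.quotKerEquivRange_symm_apply_image ⟨c, hc⟩]
      rfl
    rw [smul_sub, ← hψ, ← h1, sub_eq_zero, ← map_smul, ← map_smul, smul_eq_mul, mul_one]
  have hmem : s - toSec E _ (g 1) ∈ (⊥ : Submodule A (sec E (LocCoh.puncturedOpen A a))) := by
    rw [← torsion_sec_eq_bot E a]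
    exact (torsion_mem_iff a _).2 ⟨_, key⟩
  exact (sub_eq_zero.1 ((Submodule.mem_bot A).1 hmem)).symm

/-- The sheaf of an injective module is flasque. -/
theorem isFlasque_tilde : TopCat.Sheaf.IsFlasque (X := (Spec (CommRingCat.of A)).carrier)
    (Coh.toAb (tilde E)) where
  epi {V W} i := (AddCommGrpCat.epi_iff_surjective _).2 fun t => by
    obtain ⟨e, rfl⟩ := toSec_surjective E W.unop t
    exact ⟨toSec E V.unop e, res_toSec E (leOfHom i.unop) e⟩

end Groth.Agent.LocCohDepth
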