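import Groth.Agent.GrLib8.HZshPre
import Groth.Agent.FlasqueSupp.Core
import Groth.Agent.SiteBase.DerivedKernel

/-!
# Global sections of the first non-zero local cohomology sheaf
-/

set_option autoImplicit false

universe u

open CategoryTheory CategoryTheory.Limits Opposite TopologicalSpace

namespace Groth.Agent.LocCohDepth

variable {X : TopCat.{u}} (U : Opens X)

/-- Global sections, as a functor. -/
noncomputable abbrev topSec (X : TopCat.{u}) : CohTop.Ab X ⥤ AddCommGrpCat.{u} :=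
  sheafToPresheaf (Opens.grothendieckTopology X) AddCommGrpCat.{u} ⋙
    (evaluation (Opens X)ᵒᵖ AddCommGrpCat.{u}).obj (op ⊤)

theorem nonempty_sections_zero (F : CohTop.Ab X) :
    Nonempty (↑((topSec X).obj ((LocCohZ.HZsh U 0).obj F)) ≃+ LocCohZ.HZc F 0 U) := by
  haveI := FlasqueSupp.preservesFiniteLimits_sectSuppF U
  let e₁ := ((topSec X).mapIso ((LocCohZ.sectSuppF U).rightDerivedZeroIsoSelf.app F)).addCommGroupIsoToAddEquiv
  let j := FlasqueSupp.incl U F ⊤
  have hj : j.range = LocCohZ.sectZ F (le_top : U ≤ ⊤) := by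
    ext s
    refine (FlasqueSupp.range_incl U F ⊤ s).trans ?_
    have h1 : (homOfLE (inf_le_right : U ⊓ ⊤ ≤ ⊤)).op =
        (homOfLE (le_top : U ≤ ⊤)).op ≫ (homOfLE (inf_le_left : U ⊓ ⊤ ≤ U)).op := rfl
    have h2 : (homOfLE (le_top : U ≤ ⊤)).op =
        (homOfLE (inf_le_right : U ⊓ ⊤ ≤ ⊤)).op ≫ (homOfLE (le_inf le_rfl le_top : U ≤ U ⊓ ⊤)).op := rfl
    constructor
    · intro hs
      show (F.obj.map (homOfLE (le_top : U ≤ ⊤)).op).hom s = 0
      rw [h2, F.obj.map_comp]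
      exact (congrArg (F.obj.map (homOfLE (le_inf le_rfl le_top : U ≤ U ⊓ ⊤)).op).hom hs).trans (map_zero _)
    · intro hs
      show (F.obj.map (homOfLE (inf_le_right : U ⊓ ⊤ ≤ ⊤)).op).hom s = 0
      rw [h1, F.obj.map_comp]
      exact (congrArg (F.obj.map (homOfLE (inf_le_left : U ⊓ ⊤ ≤ U)).op).hom hs).trans (map_zero _)
  let e₂ := (AddMonoidHom.ofInjective (f := j) (FlasqueSupp.incl_injective U F ⊤)).trans
    (AddEquiv.addSubgroupCongr hj)
  exact ⟨e₁.trans (e₂.trans (LocCohZ.sect0Equiv F (le_top : U ≤ ⊤)).symm)⟩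

theorem top_inf_eq_of_subsingleton (F : CohTop.Ab X) (i : ℕ)
    (h : Subsingleton (LocCohZ.HZ F i (inf_le_left : (⊤ : Opens X) ⊓ U ≤ ⊤))) :
    Subsingleton (LocCohZ.HZc F i U) := by
  have key : ∀ (W : Opens X) (hW : W ≤ ⊤), W = U → Subsingleton (LocCohZ.HZ F i hW) →
      Subsingleton (LocCohZ.HZc F i U) := by
    intro W hW e hs
    subst e
    exact hs
  exact key _ inf_le_left (top_inf_eq U) h

/-- When the lower local cohomology sheaves vanish, cohomology with supports is given by global sections. -/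
theorem nonempty_sections_of_vanishing : ∀ (d : ℕ) (F : CohTop.Ab X),
    (∀ i < d, IsZero ((LocCohZ.HZsh U i).obj F)) →
    Nonempty (↑((topSec X).obj ((LocCohZ.HZsh U d).obj F)) ≃+ LocCohZ.HZc F d U)
  | 0, F, _ => nonempty_sections_zero U F
  | d + 1, F, h => by
    obtain ⟨S, hS, rfl, h2⟩ := GrLib8.HZshPre.exists_shift U F fun V =>
      (GrLib8.HZshPre.isZero_iff_subsingleton U F (d + 1)).1 h V 0 (Nat.succ_pos d)
    have hz : ∀ i, IsZero ((LocCohZ.HZsh U i).obj S.X₂) := fun i =>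
      GrLib8.HZshPre.isZero_of_subsingleton U S.X₂ i (h2 i)
    have hc : ∀ i, Subsingleton (LocCohZ.HZc S.X₂ i U) := fun i =>
      top_inf_eq_of_subsingleton U S.X₂ i (h2 i ⊤)
    let L := SESResLib.derivedLES (LocCohZ.sectSuppF U)
    have hiso : ∀ q, IsIso (L.δ S hS q (q + 1) rfl) := fun q => by
      haveI := (L.exact₃ S hS q (q + 1) rfl).mono_g ((hz q).eq_of_src _ _)
      haveI := (L.exact₁ S hS q (q + 1) rfl).epi_f ((hz (q + 1)).eq_of_tgt _ _)
      exact isIso_of_mono_of_epi _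
    obtain ⟨e⟩ := nonempty_sections_of_vanishing d S.X₃ fun i hi =>
      (h (i + 1) (by omega)).of_iso (@asIso _ _ _ _ _ (hiso i))
    haveI := hiso d
    let e₁ := ((topSec X).mapIso (asIso (L.δ S hS d (d + 1) rfl))).addCommGroupIsoToAddEquiv
    let δ : LocCohZ.HZc S.X₃ d U →+ LocCohZ.HZc S.X₁ (d + 1) U := hS.extClass.postcomp _ rfl
    have hδ : Function.Bijective δ := by
      refine ⟨(injective_iff_map_eq_zero δ).2 fun x hx => ?_, fun y => ?_⟩
      · obtain ⟨z, rfl⟩ := Abelian.Ext.covariant_sequence_exact₃ _ hS x rfl hx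
        rw [(hc d).elim z 0, Abelian.Ext.zero_comp]
      · obtain ⟨x, hx⟩ := Abelian.Ext.covariant_sequence_exact₁ _ hS y ((hc (d + 1)).elim _ _) (n₀ := d) rfl
        exact ⟨x, hx⟩
    exact ⟨e₁.symm.trans (e.trans (AddEquiv.ofBijective δ hδ))⟩

end Groth.Agent.LocCohDepth
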