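import Groth.Agent.LocCohDepth.TorsionBC

/-!
# The base change isomorphism on maps out of a torsion module
-/

set_option autoImplicit false
set_option linter.style.haveILetI false
set_option backward.isDefEq.respectTransparency false
set_option backward.isDefEq.respectTransparency.types false

universe u

open CategoryTheory CategoryTheory.Limits CategoryTheory.Pretriangulated
open scoped TensorProduct

attribute [local instance] HasDerivedCategory.standard

namespace Groth.Agent.LocCohDepth.TorsBC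

variable {A : Type u} [CommRing A]

/-- `(X⟦-i⟧ ⟶ Y) ≃+ (X ⟶ Y⟦i⟧)`. -/
noncomputable def shiftHom (X Y : DerivedCategory (ModuleCat.{u} A)) (i : ℤ) :
    (X⟦-i⟧ ⟶ Y) ≃+ (X ⟶ Y⟦i⟧) where
  toEquiv := (shiftEquiv' (DerivedCategory (ModuleCat.{u} A)) (-i) i (neg_add_cancel i)).toAdjunction.homEquiv X Y
  map_add' x y := by
    show (Adjunction.homEquiv _ X Y) (x + y) = (Adjunction.homEquiv _ X Y) x + (Adjunction.homEquiv _ X Y) y
    rw [Adjunction.homEquiv_unit, Adjunction.homEquiv_unit, Adjunction.homEquiv_unit]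
    change _ ≫ (shiftFunctor (DerivedCategory (ModuleCat.{u} A)) i).map (x + y) = _
    rw [Functor.map_add, Preadditive.comp_add]

/-- Composition with a morphism bijective on maps from the shifts of `M`. -/
noncomputable def Bij.equiv {M : ModuleCat.{u} A} {X Y : DerivedCategory (ModuleCat.{u} A)} {f : X ⟶ Y}
    (h : Bij M f) (n : ℤ) : (S M n ⟶ X) ≃+ (S M n ⟶ Y) :=
  { Equiv.ofBijective _ (h n) with map_add' := fun x y => Preadditive.add_comp _ _ _ x y f }

variable {B : Type u} [CommRing B] (φ : A →+* B) [PreservesFiniteLimits (ModuleCat.extendScalars.{u, u, u} φ)]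

theorem bij_unit (fs : List A)
    (hbij : ∀ H : ModuleCat.{u} A, (∀ f ∈ fs, ∀ x : H, ∃ n : ℕ, f ^ n • x = 0) →
      Function.Bijective ((ModuleCat.extendRestrictScalarsAdj.{u, u, u} φ).unit.app H))
    (M : ModuleCat.{u} A) (hM : ∀ f ∈ fs, ∀ x : M, ∃ n : ℕ, f ^ n • x = 0) (N : ModuleCat.{u} A) :
    Bij M (DerivedCategory.Q.map ((NatTrans.mapHomologicalComplex (ModuleCat.extendRestrictScalarsAdj.{u, u, u} φ).unit
      (ComplexShape.up ℤ)).app ((HomologicalComplex.single (ModuleCat.{u} A) (ComplexShape.up ℤ) 0).obj N))) := by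
  let G := ModuleCat.extendScalars.{u, u, u} φ ⋙ ModuleCat.restrictScalars.{u} φ
  haveI : PreservesFiniteLimits G := comp_preservesFiniteLimits _ _
  haveI : PreservesFiniteColimits G := comp_preservesFiniteColimits _ _
  haveI : G.PreservesHomology := inferInstance
  let τ := (ModuleCat.extendRestrictScalarsAdj.{u, u, u} φ).unit
  let η := NatTrans.mapHomologicalComplex τ (ComplexShape.up ℤ)
  let P := DerCA.extCech N fs
  have hqi : QuasiIso (η.app P) := ⟨fun q => by
    rw [quasiIsoAt_iff_isIso_homologyMap]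
    have h1 : IsIso (τ.app (P.sc q).homology) :=
      (ConcreteCategory.isIso_iff_bijective _).2
        (hbij _ fun f hf x => H9Misc.ExtCechTors.tors_extCech N fs hf q x)
    show IsIso (ShortComplex.homologyMap ((P.sc q).mapNatTrans τ))
    rw [ShortComplex.homologyMap_mapNatTrans]
    infer_instance⟩
  haveI : IsIso (DerivedCategory.Q.map (η.app P)) := inferInstance
  have h0 : Bij M (DerivedCategory.Q.map (((𝟭 (ModuleCat.{u} A)).mapHomologicalComplex _).map (proj N fs))) :=
    bij_map_proj (𝟭 _) (fun _ _ => rfl) (fun K g => orth_of_isUnitOn K g) N fs hM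
  have h1 : Bij M (DerivedCategory.Q.map ((G.mapHomologicalComplex _).map (proj N fs))) :=
    bij_map_proj G (comp_map_smul φ) (fun K g => orth_of_isUnitOn K g) N fs hM
  refine bij_of_comp_left h0 ?_
  rw [← Functor.map_comp, η.naturality, Functor.map_comp]
  exact bij_comp (bij_of_isIso _) h1

theorem nonempty_equiv (fs : List A)
    (hbij : ∀ H : ModuleCat.{u} A, (∀ f ∈ fs, ∀ x : H, ∃ n : ℕ, f ^ n • x = 0) →
      Function.Bijective ((ModuleCat.extendRestrictScalarsAdj.{u, u, u} φ).unit.app H))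
    (M : ModuleCat.{u} A) (hM : ∀ f ∈ fs, ∀ x : M, ∃ n : ℕ, f ^ n • x = 0) (N : ModuleCat.{u} A) (i : ℤ) :
    Nonempty (((DerivedCategory.singleFunctor (ModuleCat.{u} A) 0).obj M ⟶
        ((DerivedCategory.singleFunctor (ModuleCat.{u} A) 0).obj N)⟦i⟧) ≃+
      ((DerivedCategory.singleFunctor (ModuleCat.{u} B) 0).obj ((ModuleCat.extendScalars.{u, u, u} φ).obj M) ⟶
        ((DerivedCategory.singleFunctor (ModuleCat.{u} B) 0).obj ((ModuleCat.extendScalars.{u, u, u} φ).obj N))⟦i⟧)) := by
  let E := ModuleCat.extendScalars.{u, u, u} φ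
  obtain ⟨e3⟩ := nonempty_homEquiv φ M (-i)
    ((E.mapHomologicalComplex _).obj ((HomologicalComplex.single (ModuleCat.{u} A) (ComplexShape.up ℤ) 0).obj N))
  let a := (DerivedCategory.singleFunctorIsoCompQ (ModuleCat.{u} A) 0).app N
  let b : DerivedCategory.Q.obj ((E.mapHomologicalComplex _).obj
      ((HomologicalComplex.single (ModuleCat.{u} A) (ComplexShape.up ℤ) 0).obj N)) ≅
      (DerivedCategory.singleFunctor (ModuleCat.{u} B) 0).obj (E.obj N) :=
    DerivedCategory.Q.mapIso ((HomologicalComplex.singleMapHomologicalComplex E (ComplexShape.up ℤ) 0).app N) ≪≫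
      ((DerivedCategory.singleFunctorIsoCompQ (ModuleCat.{u} B) 0).app (E.obj N)).symm
  let c := bij_comp (bij_of_isIso (M := M) a.hom) (bij_unit φ fs hbij M hM N)
  exact ⟨(shiftHom _ _ i).symm.trans ((c.equiv (-i)).trans (e3.trans
    (((bij_of_isIso (M := E.obj M) b.hom).equiv (-i)).trans (shiftHom _ _ i))))⟩

end Groth.Agent.LocCohDepth.TorsBC
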