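import Groth.Agent.LocCohDepth.Chart
import Groth.Agent.LocCohDepth.Degree
import Groth.Agent.LC.DepthLoc
import Groth.Agent.LC.CdDim
import Groth.Agent.GrLib8.HZshPre

/-!
# Grothendieck's vanishing for local cohomology sheaves, in terms of the local rings along the closed subset
-/

set_option autoImplicit false

universe u

open CategoryTheory CategoryTheory.Limits AlgebraicGeometry Opposite TopologicalSpace

namespace Groth.Agent.LocCohDepth

/-- `H^i_I(N) = 0` if the localisations at the primes containing `I` have dimension `< i`. -/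
theorem subsingleton_H_of_dim_lt {R : Type u} [CommRing R] [IsNoetherianRing R] (I : Ideal R) (N : Type u)
    [AddCommGroup N] [Module R N] (i : ℕ)
    (h : ∀ p : PrimeSpectrum R, I ≤ p.asIdeal →
      ringKrullDim (Localization.AtPrime p.asIdeal) < (i : WithBot ℕ∞)) :
    Subsingleton ((localCohomology I i).obj (ModuleCat.of R N)) := by
  rw [← Module.support_eq_empty_iff (R := R), Set.eq_empty_iff_forall_notMem]
  intro p hp
  have hIp := LC.le_prime_of_mem_support_H I N hp
  obtain ⟨e⟩ := LC.exists_localizedH I N p.asIdeal i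
  haveI := LC.subsingleton_H_of_supportDim_lt (I.map (algebraMap R (Localization.AtPrime p.asIdeal)))
    (LocalizedModule p.asIdeal.primeCompl N) i
    ((Module.supportDim_le_ringKrullDim _ _).trans_lt (h p hIp))
  haveI := e.toEquiv.subsingleton
  exact not_subsingleton_iff_nontrivial.2 (Module.mem_support_iff.1 hp) inferInstance

/-- `ℋ^i_Y(M) = 0` as soon as `dim O_{X,x} < i` along `Y`. -/
theorem isZero_HZsh_of_dim_lt {X : Scheme.{u}} [IsLocallyNoetherian X] (U : X.Opens) {M : X.Modules}
    (hM : Coh.IsQCoh M) (i : ℕ)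
    (hi : ∀ x : X, x ∉ (U : Set X) → ringKrullDim (X.presheaf.stalk x) < (i : WithBot ℕ∞)) :
    IsZero ((LocCohZ.HZsh (X := X.carrier) U i).obj (Coh.toAb M)) := by
  refine GrLib8.HZshPre.isZero_of_locallyZero (X := X.carrier) U (Coh.toAb M) i fun V z y hy => ?_
  obtain ⟨W, hW, hyW, hWV⟩ := exists_isAffineOpen_mem_and_subset (x := y) (U := V) hy
  haveI : IsNoetherianRing Γ(X, W) := IsLocallyNoetherian.component_noetherian ⟨W, hW⟩
  obtain ⟨I, hmem, hiff⟩ := exists_chart U hM hW
  refine ⟨W, hWV, hyW, ((hiff i).2 ((subsingleton_hz_iff I i _).2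
    (subsingleton_H_of_dim_lt I _ i fun p hp => ?_))).elim _ _⟩
  obtain ⟨x, hx, rfl⟩ := QCoh.exists_point hW p
  letI := QCoh.stalkAlg (X := X) hx
  haveI := QCoh.isLocalization_stalk' hW hx
  rw [ringKrullDim_eq_of_ringEquiv
    (IsLocalization.algEquiv (hW.primeIdealOf ⟨x, hx⟩).asIdeal.primeCompl
      (Localization.AtPrime (hW.primeIdealOf ⟨x, hx⟩).asIdeal) (X.presheaf.stalk x)).toRingEquiv]
  refine hi x ?_
  have := (hmem _).1 hp
  rwa [hW.fromSpec_primeIdealOf ⟨x, hx⟩] at this

end Groth.Agent.LocCohDepth
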